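import Cfsg.Agent.Lib.Quadratic.Consequences
import Cfsg.Agent.Lib.Quadratic.Stable

/-!
Two quadratic elements generate a group all of whose involutions are central; consequences for groups in
which 2-elements centralize the `p`-subgroups they normalize.
-/

set_option autoImplicit false
set_option linter.unusedSectionVars false
set_option maxHeartbeats 1000000

namespace CfsgLib.RealQuad

open CfsgLib CfsgLib.Local Cfsg
open scoped commutatorElement Pointwise

universe u v

/-- A 2-element of `H` moves an element of a `p`-subgroup of `H` that it normalizes. -/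
def Rl {G : Type u} [Group G] (p : ℕ) (H : Subgroup G) : Prop :=
  ∃ s ∈ H, (∃ k, s ^ 2 ^ k = 1) ∧ ∃ P : Subgroup G, P ≤ H ∧ IsPGroup p P ∧
    s ∈ Subgroup.normalizer (P : Set G) ∧ ∃ v ∈ P, s * v ≠ v * s

section ring

variable {E : Type*} [Ring E] {A B : E}

/-- Four coefficients describing an element and its inverse. -/
def Shape (A B g gi : E) : Prop :=
  ∃ α β γ δ : E, (∀ r ∈ ({α, β, γ, δ} : Set E), Commute r A ∧ Commute r B) ∧
    g = α + β * A + γ * B + δ * (A * B) ∧ gi = α - β * A - γ * B + δ * (B * A)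

variable (hA : A * A = 0) (hB : B * B = 0)
include hA hB

theorem commute_sum : Commute (A * B + B * A) A ∧ Commute (A * B + B * A) B := by
  constructor
  · show (A * B + B * A) * A = A * (A * B + B * A)
    rw [add_mul, mul_add, mul_assoc B A A, hA, mul_zero, add_zero, ← mul_assoc A A B, hA, zero_mul, zero_add,
      mul_assoc]
  · show (A * B + B * A) * B = B * (A * B + B * A)
    rw [add_mul, mul_add, mul_assoc A B B, hB, mul_zero, zero_add, ← mul_assoc B B A, hB, zero_mul, add_zero,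
      mul_assoc]

theorem shape_mul_left {g gi : E} (h : Shape A B g gi) :
    Shape A B ((1 + A) * g) (gi * (1 - A)) ∧ Shape A B ((1 - A) * g) (gi * (1 + A)) ∧
      Shape A B ((1 + B) * g) (gi * (1 - B)) ∧ Shape A B ((1 - B) * g) (gi * (1 + B)) := by
  obtain ⟨α, β, γ, δ, hc, rfl, rfl⟩ := h
  obtain ⟨cA, cB⟩ := commute_sum hA hB
  set c := A * B + B * A with hcdef
  have hr : ∀ r ∈ ({α, β, γ, δ} : Set E), ∀ x : E,
      A * (r * x) = r * (A * x) ∧ B * (r * x) = r * (B * x) ∧ A * r = r * A ∧ B * r = r * B := by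
    intro r hr x
    obtain ⟨h1, h2⟩ := hc r hr
    exact ⟨by rw [← mul_assoc, ← h1.eq, mul_assoc], by rw [← mul_assoc, ← h2.eq, mul_assoc], h1.eq.symm, h2.eq.symm⟩
  obtain ⟨a1, a2, a3, a4⟩ := hc α (by simp), hc β (by simp), hc γ (by simp), hc δ (by simp)
  have eAA : ∀ x, A * (A * x) = 0 := fun x => by rw [← mul_assoc, hA, zero_mul]
  have eBB : ∀ x, B * (B * x) = 0 := fun x => by rw [← mul_assoc, hB, zero_mul]
  have eBA : B * A = c - A * B := by rw [hcdef]; abel
  have eBAB : B * (A * B) = c * B := by rw [hcdef, add_mul, mul_assoc, hB, mul_zero, zero_add, mul_assoc]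
  have eABA : A * (B * A) = c * A := by rw [hcdef, add_mul, mul_assoc B, hA, mul_zero, add_zero, mul_assoc]
  have pA : ∀ (r x : E), r ∈ ({α, β, γ, δ} : Set E) → A * (r * x) = r * (A * x) := fun r x h => (hr r h x).1
  have pB : ∀ (r x : E), r ∈ ({α, β, γ, δ} : Set E) → B * (r * x) = r * (B * x) := fun r x h => (hr r h x).2.1
  have qA1 := pA β A (by simp); have qA2 := pA γ B (by simp); have qA3 := pA δ (A * B) (by simp)
  have qB1 := pB β A (by simp); have qB2 := pB γ B (by simp); have qB3 := pB δ (A * B) (by simp)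
  have hα := (hr α (by simp) 1).2.2
  have ecA : A * c = c * A := cA.eq.symm
  have ecB : B * c = c * B := cB.eq.symm
  refine ⟨⟨α, β + α, γ, δ + γ, ?_, ?_, ?_⟩, ⟨α, β - α, γ, δ - γ, ?_, ?_, ?_⟩,
    ⟨α + β * c, β, α + γ + δ * c, δ - β, ?_, ?_, ?_⟩, ⟨α - β * c, β, γ - α - δ * c, δ + β, ?_, ?_, ?_⟩⟩
  all_goals first
    | (intro r hr'
       simp only [Set.mem_insert_iff, Set.mem_singleton_iff] at hr'
       rcases hr' with rfl | rfl | rfl | rfl
       all_goals first
         | assumption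
         | exact ⟨a1.1.add_left (a2.1.mul_left cA), a1.2.add_left (a2.2.mul_left cB)⟩
         | exact ⟨a1.1.sub_left (a2.1.mul_left cA), a1.2.sub_left (a2.2.mul_left cB)⟩
         | exact ⟨(a1.1.add_left a3.1).add_left (a4.1.mul_left cA), (a1.2.add_left a3.2).add_left (a4.2.mul_left cB)⟩
         | exact ⟨(a3.1.sub_left a1.1).sub_left (a4.1.mul_left cA), (a3.2.sub_left a1.2).sub_left (a4.2.mul_left cB)⟩
         | exact ⟨a2.1.add_left a1.1, a2.2.add_left a1.2⟩
         | exact ⟨a2.1.sub_left a1.1, a2.2.sub_left a1.2⟩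
         | exact ⟨a4.1.add_left a3.1, a4.2.add_left a3.2⟩
         | exact ⟨a4.1.sub_left a3.1, a4.2.sub_left a3.2⟩
         | exact ⟨a4.1.add_left a2.1, a4.2.add_left a2.2⟩
         | exact ⟨a4.1.sub_left a2.1, a4.2.sub_left a2.2⟩)
    | (simp only [mul_add, mul_sub, add_mul, sub_mul, mul_one, one_mul, qA1, qA2, qA3, qB1, qB2, qB3, hα.1, hα.2,
        hA, hB, eAA, eBAB, eBA, eABA, ecA, ecB, mul_assoc, mul_zero, zero_mul, add_zero, zero_add, sub_zero]
       try abel)

end ring

variable {Y : Type u} [Group Y] {W : Type v} [CommGroup W]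

/-- A quadratic element. -/
def Quad (φ : Y →* MulAut W) (x : Y) : Prop := ∀ w : W, φ x (φ x w / w) = φ x w / w

variable (φ : Y →* MulAut W)

theorem quad_conj {x : Y} (hx : Quad φ x) (g : Y) : Quad φ (g * x * g⁻¹) := by
  intro w
  have c1 : ∀ u : W, φ g⁻¹ (φ g u) = u := fun u => by
    rw [← MulAut.mul_apply, ← map_mul, inv_mul_cancel, map_one, MulAut.one_apply]
  have c2 : ∀ u : W, φ g (φ g⁻¹ u) = u := fun u => by
    rw [← MulAut.mul_apply, ← map_mul, mul_inv_cancel, map_one, MulAut.one_apply]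
  have e : ∀ u : W, φ (g * x * g⁻¹) u = φ g (φ x (φ g⁻¹ u)) := fun u => by
    rw [map_mul, map_mul, MulAut.mul_apply, MulAut.mul_apply]
  have e2 : φ g⁻¹ (φ g (φ x (φ g⁻¹ w)) / w) = φ x (φ g⁻¹ w) / φ g⁻¹ w := by
    rw [map_div, c1]
  rw [e w, e, e2, hx, map_div, c2]

theorem quad_pow {x : Y} (hx : Quad φ x) (w : W) (n : ℕ) : φ (x ^ n) w = w * (φ x w / w) ^ n := by
  induction n with
  | zero => simp
  | succ n ih =>
    rw [pow_succ', map_mul, MulAut.mul_apply, ih, map_mul, map_pow, hx w, pow_succ, mul_comm ((φ x w / w) ^ n),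
      ← mul_assoc, mul_div_cancel]

variable (hinj : Function.Injective φ) {p : ℕ} [Fact p.Prime] (hexp : ∀ w : W, w ^ p = 1)
include hinj hexp

theorem quad_pow_eq_one {x : Y} (hx : Quad φ x) : x ^ p = 1 := hinj (MulEquiv.ext fun w => by
  rw [quad_pow φ hx, hexp, mul_one, map_one, MulAut.one_apply])

theorem central_of_involution [Finite Y] (hp : p ≠ 2) {a b s : Y} (ha : Quad φ a) (hb : Quad φ b)
    (hs : s ∈ Subgroup.closure ({a, b} : Set Y)) (hs2 : s * s = 1) : s * a = a * s := by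
  let ρ : Y →* AddMonoid.End (Additive W) :=
    { toFun := fun g => MonoidHom.toAdditive (φ g).toMonoidHom
      map_one' := by ext v; exact congrArg Additive.ofMul (by rw [map_one]; rfl)
      map_mul' := fun g h => by ext v; exact congrArg Additive.ofMul (by rw [map_mul]; rfl) }
  have hρ : ∀ (g : Y) (w : W), ρ g (Additive.ofMul w) = Additive.ofMul (φ g w) := fun g w => rfl
  have hρi : Function.Injective ρ := fun g h e => hinj (MulEquiv.ext fun w => by
    have := DFunLike.congr_fun e (Additive.ofMul w)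
    rwa [hρ, hρ, Additive.ofMul.injective.eq_iff] at this)
  have hsq : ∀ {x : Y}, Quad φ x → (ρ x - 1) * (ρ x - 1) = 0 := by
    intro x hx
    ext v
    obtain ⟨w, rfl⟩ := Additive.ofMul.surjective v
    show ρ x (ρ x (Additive.ofMul w) - Additive.ofMul w) - (ρ x (Additive.ofMul w) - Additive.ofMul w) = 0
    rw [hρ, ← ofMul_div, hρ, hx w, sub_self]
  have hinvA : ∀ {x : Y}, Quad φ x → ρ x⁻¹ = 1 - (ρ x - 1) := by
    intro x hx
    have h1 : ρ x⁻¹ * ρ x = 1 := by rw [← map_mul, inv_mul_cancel, map_one]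
    have h2 : ρ x * (1 - (ρ x - 1)) = 1 := by
      have := hsq hx
      have e : ρ x = 1 + (ρ x - 1) := by abel
      generalize ρ x - 1 = D at this e ⊢
      rw [e, add_mul, one_mul, mul_sub, mul_one, this, sub_zero]
      abel
    calc ρ x⁻¹ = ρ x⁻¹ * (ρ x * (1 - (ρ x - 1))) := by rw [h2, mul_one]
      _ = 1 - (ρ x - 1) := by rw [← mul_assoc, h1, one_mul]
  set A := ρ a - 1 with hAdef
  set B := ρ b - 1 with hBdef
  have hA := hsq ha
  have hB := hsq hb
  have ea : ρ a = 1 + A := by rw [hAdef]; abel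
  have eb : ρ b = 1 + B := by rw [hBdef]; abel
  have key0 : ∀ z ∈ Subgroup.closure ({a, b} : Set Y), Shape A B (ρ z) (ρ z⁻¹) := by
    intro z hz
    induction hz using Subgroup.closure_induction_left with
    | one => exact ⟨1, 0, 0, 0, by simp, by simp, by simp⟩
    | mul_left x hx y _ ih =>
      obtain ⟨h1, h2, h3, h4⟩ := shape_mul_left hA hB ih
      rcases hx with hx | hx <;> subst hx
      · rw [map_mul, mul_inv_rev, map_mul, hinvA ha, ← hAdef, ea]; exact h1
      · rw [map_mul, mul_inv_rev, map_mul, hinvA hb, ← hBdef, eb]; exact h3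
    | inv_mul_cancel x hx y _ ih =>
      obtain ⟨h1, h2, h3, h4⟩ := shape_mul_left hA hB ih
      rcases hx with hx | hx <;> subst hx
      · rw [map_mul, mul_inv_rev, map_mul, inv_inv, hinvA ha, ← hAdef, ea]; exact h2
      · rw [map_mul, mul_inv_rev, map_mul, inv_inv, hinvA hb, ← hBdef, eb]; exact h4
  obtain ⟨α, β, γ, δ, hc, e1, e2⟩ := key0 s hs
  rw [inv_eq_of_mul_eq_one_right hs2] at e2
  have e3 : (2 : ℕ) • ρ s = (2 : ℕ) • α + δ * (A * B + B * A) := by
    rw [two_nsmul, two_nsmul]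
    nth_rewrite 1 [e1]
    rw [e2, mul_add]
    abel
  have hcom : Commute ((2 : ℕ) • ρ s) A := by
    rw [e3]
    exact ((hc α (by simp)).1.smul_left 2).add_left ((hc δ (by simp)).1.mul_left (commute_sum hA hB).1)
  have h4 : (2 : ℕ) • (ρ s * A - A * ρ s) = 0 := by
    have h5 := hcom.eq
    rw [two_nsmul] at h5 ⊢
    rw [← sub_eq_zero] at h5
    rw [← h5]
    noncomm_ring
  have hpz : p • (ρ s * A - A * ρ s) = 0 := by
    ext v
    obtain ⟨w, hw⟩ := Additive.ofMul.surjective ((ρ s * A - A * ρ s) v)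
    show p • (ρ s * A - A * ρ s) v = 0
    rw [← hw, ← ofMul_pow, hexp, ofMul_one]
  obtain ⟨m, hm⟩ := (Fact.out : p.Prime).odd_of_ne_two hp
  rw [hm, add_smul, one_smul, mul_comm, mul_smul, h4, smul_zero, zero_add, sub_eq_zero] at hpz
  refine hρi ?_
  rw [map_mul, map_mul, ea, mul_add, add_mul, mul_one, one_mul, hpz]

theorem exists_involution_mem [Finite Y] [Finite W] (hp : p ≠ 2) {a b : Y} (ha : Quad φ a) (hb : Quad φ b)
    (hnp : ¬ IsPGroup p (Subgroup.closure ({a, b} : Set Y))) :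
    ∃ s ∈ Subgroup.closure ({a, b} : Set Y), orderOf s = 2 := by
  set L := Subgroup.closure ({a, b} : Set Y) with hL
  let i : Y →* W ⋊[φ] Y := SemidirectProduct.inr
  have hi : Function.Injective i := SemidirectProduct.inr_injective
  haveI : Finite (W ⋊[φ] Y) := Finite.of_equiv _ SemidirectProduct.equivProd.symm
  set V := (SemidirectProduct.inl (φ := φ)).range with hV
  have hV' : ∀ w : W, SemidirectProduct.inl w ∈ V := fun w => ⟨w, rfl⟩
  have hVp : IsPGroup p V := by
    rintro ⟨_, w, rfl⟩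
    exact ⟨1, Subtype.ext (by simp [← map_pow, hexp])⟩
  have hn : ∀ y : Y, i y ∈ Subgroup.normalizer (V : Set (W ⋊[φ] Y)) := by
    haveI : V.Normal := by rw [hV, SemidirectProduct.range_inl_eq_ker_rightHom]; infer_instance
    intro y
    rw [Subgroup.normalizer_eq_top]; exact Subgroup.mem_top _
  set H := L.map i with hH
  have hH' : H = Subgroup.closure {i a, i b} := by rw [hH, hL, MonoidHom.map_closure, Set.image_pair]
  have hHp : ¬ IsPGroup p H := fun h => hnp (h.of_equiv (L.equivMapOfInjective i hi).symm)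
  obtain ⟨x, hxH, hxab, hxout⟩ := Quadratic.exists_quad_outside hH' hHp
  have hq : ⁅⁅V, Subgroup.zpowers x⁆, Subgroup.zpowers x⁆ = ⊥ := by
    obtain ⟨x₀, hx₀, rfl⟩ : ∃ x₀, Quad φ x₀ ∧ i x₀ = x := by
      rcases hxab with rfl | rfl
      exacts [⟨a, ha, rfl⟩, ⟨b, hb, rfl⟩]
    have hfix : ∀ n : ℕ, ∀ w : W, φ x₀ (φ (x₀ ^ n) w / w) = φ (x₀ ^ n) w / w := fun n w => by
      rw [quad_pow φ hx₀, mul_div_cancel_left, map_pow, hx₀ w]
    rw [Subgroup.commutator_eq_bot_iff_le_centralizer, Subgroup.commutator_le]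
    rintro _ ⟨w, rfl⟩ y hy z hz
    obtain ⟨n, rfl⟩ := mem_powers_iff_mem_zpowers.2 hy
    obtain ⟨m, rfl⟩ := mem_powers_iff_mem_zpowers.2 hz
    have e : ∀ (n : ℕ) (w : W), (i x₀) ^ n * (SemidirectProduct.inl w : W ⋊[φ] Y) * ((i x₀) ^ n)⁻¹ =
        SemidirectProduct.inl (φ (x₀ ^ n) w) := fun n w => by
      rw [← map_pow, ← map_inv]; exact (SemidirectProduct.inl_aut _ _).symm
    have e1 : ⁅(SemidirectProduct.inl w : W ⋊[φ] Y), (i x₀) ^ n⁆ = (SemidirectProduct.inl ((φ (x₀ ^ n) w / w)⁻¹) : W ⋊[φ] Y) := by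
      rw [inv_div, div_eq_mul_inv, map_mul, map_inv, ← e n w, commutatorElement_def]
      group
    have e2 := e m ((φ (x₀ ^ n) w / w)⁻¹)
    have e3 : φ (x₀ ^ m) ((φ (x₀ ^ n) w / w)⁻¹) = (φ (x₀ ^ n) w / w)⁻¹ := by
      rw [quad_pow φ hx₀, map_inv, hfix n w, div_self', one_pow, mul_one]
    show (i x₀) ^ m * ⁅(SemidirectProduct.inl w : W ⋊[φ] Y), (i x₀) ^ n⁆ = _
    rw [e1]
    rw [e3, mul_inv_eq_iff_eq_mul] at e2
    exact e2
  obtain ⟨K, hKH, f, hf⟩ := Quadratic.exists_sl2_of_faithful hp hVp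
    (show H ≤ Subgroup.normalizer (V : Set (W ⋊[φ] Y)) by rintro _ ⟨y, -, rfl⟩; exact hn y) (by
      rw [Subgroup.eq_bot_iff_forall]
      rintro _ ⟨⟨y, -, rfl⟩, hc⟩
      have : y = 1 := hinj (MulEquiv.ext fun w => by
        have h1 := hc _ (hV' w)
        have h2 : i y * SemidirectProduct.inl w * (i y)⁻¹ = SemidirectProduct.inl w :=
          mul_inv_eq_iff_eq_mul.2 h1.symm
        rw [← map_inv, ← SemidirectProduct.inl_aut] at h2
        rw [map_one, MulAut.one_apply]
        exact SemidirectProduct.inl_injective h2)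
      rw [this, map_one]) hxH hq hxout
  have h2 : 2 ∣ Nat.card L := by
    have hneg : orderOf (-1 : Matrix.SpecialLinearGroup (Fin 2) (ZMod p)) = 2 := by
      refine orderOf_eq_prime (by rw [neg_one_sq]) fun e => ?_
      have h1 := congrArg (fun g : Matrix.SpecialLinearGroup (Fin 2) (ZMod p) => g.1 0 0) e
      simp at h1
      have h3 : ((2 : ℕ) : ZMod p) = 0 := by push_cast; linear_combination -h1
      rw [ZMod.natCast_eq_zero_iff] at h3
      exact hp ((Nat.prime_dvd_prime_iff_eq Fact.out Nat.prime_two).1 h3)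
    have d1 := hneg ▸ orderOf_dvd_natCard (-1 : Matrix.SpecialLinearGroup (Fin 2) (ZMod p))
    have d2 := Subgroup.card_dvd_of_surjective f hf
    have d3 := Subgroup.card_dvd_of_le hKH
    rw [hH, Subgroup.card_map_of_injective hi] at d3
    exact d1.trans (d2.trans d3)
  obtain ⟨s, hs⟩ := exists_prime_orderOf_dvd_card' (G := L) 2 h2
  exact ⟨s, s.2, by rw [Subgroup.orderOf_coe]; exact hs⟩

/-- An involution commuting with a quadratic element outside `O_p`. -/
theorem exists_commuting_involution [Finite Y] [Finite W] (hp : p ≠ 2) {M : Subgroup Y} {x : Y} (hxM : x ∈ M)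
    (hx : Quad φ x) (hout : (⟨x, hxM⟩ : M) ∉ pCore p M) :
    ∃ s ∈ M, orderOf s = 2 ∧ s * x = x * s := by
  set qa : M := ⟨x, hxM⟩
  have hqap : IsPGroup p (Subgroup.zpowers qa) := IsPGroup.of_card_dvd_pow (n := 1) (by
    rw [Nat.card_zpowers, pow_one]
    exact orderOf_dvd_of_pow_eq_one (Subtype.ext (quad_pow_eq_one φ hinj hexp hx)))
  obtain ⟨q, hq'⟩ : ∃ q : M, ¬ IsPGroup p ↥(Subgroup.zpowers qa ⊔ MulAut.conj q • Subgroup.zpowers qa) := by
    by_contra h
    push Not at h
    exact hout (isSubnormal_isPGroup_le_pCore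
      (le_fitting_of_sup_conj_nilpotent _ fun q => (h q).isNilpotent).1 hqap (Subgroup.mem_zpowers qa))
  set b := (q : Y) * x * (q : Y)⁻¹ with hbdef
  have hnp : ¬ IsPGroup p (Subgroup.closure ({x, b} : Set Y)) := by
    intro h
    refine hq' (IsPGroup.to_le (h.comap_of_injective M.subtype M.subtype_injective) (sup_le ?_ ?_))
    · rw [Subgroup.zpowers_le]
      exact Subgroup.subset_closure (Or.inl rfl)
    · show (Subgroup.zpowers qa).map (MulAut.conj q).toMonoidHom ≤ _
      rw [MonoidHom.map_zpowers, Subgroup.zpowers_le]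
      exact Subgroup.subset_closure (Or.inr rfl)
  have hb : Quad φ b := quad_conj φ hx q
  obtain ⟨s, hs, hs2⟩ := exists_involution_mem φ hinj hexp hp hx hb hnp
  refine ⟨s, ?_, hs2, central_of_involution φ hinj hexp hp hx hb hs ?_⟩
  · refine (Subgroup.closure_le M).2 ?_ hs
    rintro y (rfl | rfl)
    exacts [hxM, M.mul_mem (M.mul_mem q.2 hxM) (M.inv_mem q.2)]
  · rw [← sq, ← hs2, pow_orderOf_eq_one]

/-- A quadratic element outside `O_p` gives a proper even overgroup of a Sylow subgroup, if 2-elements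
centralize the `p`-subgroups they normalize. -/
theorem no_quad [Finite Y] [Finite W] (hp : p ≠ 2) (hnr : ¬ Rl p (⊤ : Subgroup Y)) (hcore : pCore p Y = ⊥)
    (hodd : ∀ (T : Sylow p Y) (H : Subgroup Y), (T : Subgroup Y) ≤ H → H ≠ ⊤ → Odd (Nat.card H))
    {a : Y} (ha : Quad φ a) : a = 1 := by
  classical
  by_contra ha1
  have hfix : ∀ (t : Y), orderOf t = 2 → ∀ P : Subgroup Y, IsPGroup p P → t ∈ Subgroup.normalizer (P : Set Y) →
      ∀ v ∈ P, t * v = v * t := by
    intro t ht P hP htP v hv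
    by_contra hne
    exact hnr ⟨t, Subgroup.mem_top _, ⟨1, by rw [pow_one, ← ht, pow_orderOf_eq_one]⟩, P, le_top, hP, htP, v, hv, hne⟩
  have hpel : ∀ {x}, Quad φ x → IsPGroup p (Subgroup.zpowers x) := fun {x} hx =>
    IsPGroup.of_card_dvd_pow (n := 1) (by
      rw [Nat.card_zpowers, pow_one]; exact orderOf_dvd_of_pow_eq_one (quad_pow_eq_one φ hinj hexp hx))
  let 𝔖 : Set (Subgroup Y) := {J | IsPGroup p J ∧ J ≠ ⊥ ∧ J = Subgroup.closure ((J : Set Y) ∩ {x | Quad φ x}) ∧
    ∃ t, orderOf t = 2 ∧ ∀ v ∈ J, t * v = v * t}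
  have hne : 𝔖.Nonempty := by
    obtain ⟨s, -, hs, hsa⟩ := exists_commuting_involution φ hinj hexp hp (M := ⊤) (Subgroup.mem_top a) ha (by
      intro h
      refine ha1 (Subgroup.mem_bot.1 (hcore ▸ ?_))
      exact le_pCore (N := (pCore p (⊤ : Subgroup Y)).map (Subgroup.topEquiv (G := Y)).toMonoidHom)
        (hN := Subgroup.Normal.map inferInstance _ (Subgroup.topEquiv (G := Y)).surjective)
        ((isPGroup_pCore p).map _) ⟨_, h, rfl⟩)
    refine ⟨Subgroup.zpowers a, hpel ha, by rwa [Ne, Subgroup.zpowers_eq_bot],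
      le_antisymm (Subgroup.zpowers_le.2 (Subgroup.subset_closure ⟨Subgroup.mem_zpowers a, ha⟩))
        ((Subgroup.closure_le _).2 Set.inter_subset_left), s, hs, fun v hv => ?_⟩
    obtain ⟨k, rfl⟩ := Subgroup.mem_zpowers_iff.1 hv
    exact ((show Commute s a from hsa).zpow_right k).eq
  obtain ⟨J, ⟨hJp, hJ1, hJgen, t, ht, htJ⟩, hmax⟩ :=
    Set.exists_max_image 𝔖 (fun J => Nat.card J) (Set.toFinite _) hne
  have hbigger : ∀ x, Quad φ x → ∀ K : Subgroup Y, IsPGroup p K → J ≤ K → x ∈ K →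
      (∃ t', orderOf t' = 2 ∧ (∀ v ∈ J, t' * v = v * t') ∧ t' * x = x * t') → x ∈ J := by
    intro x hx K hK hJK hxK ⟨t', ht', hJ', hx'⟩
    have hle : J ⊔ Subgroup.zpowers x ≤ K := sup_le hJK (Subgroup.zpowers_le.2 hxK)
    have hmem : J ⊔ Subgroup.zpowers x ∈ 𝔖 := by
      refine ⟨hK.to_le hle, fun e => hJ1 (le_bot_iff.1 (e ▸ le_sup_left)), le_antisymm ?_
        ((Subgroup.closure_le _).2 Set.inter_subset_left), t', ht', fun v hv => ?_⟩
      · refine sup_le (hJgen.le.trans (Subgroup.closure_mono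
          (Set.inter_subset_inter_left _ fun z hz => Subgroup.mem_sup_left hz))) ?_
        exact Subgroup.zpowers_le.2 (Subgroup.subset_closure ⟨Subgroup.mem_sup_right (Subgroup.mem_zpowers x), hx⟩)
      · have hc : J ⊔ Subgroup.zpowers x ≤ Subgroup.centralizer ({t'} : Set Y) := sup_le
          (fun z hz => Subgroup.mem_centralizer_singleton_iff.2 (hJ' z hz).symm)
          (Subgroup.zpowers_le.2 (Subgroup.mem_centralizer_singleton_iff.2 hx'.symm))
        exact (Subgroup.mem_centralizer_singleton_iff.1 (hc hv)).symm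
    have e := Subgroup.eq_of_le_of_card_ge (le_sup_left : J ≤ J ⊔ Subgroup.zpowers x) (hmax _ hmem)
    exact e.ge (Subgroup.mem_sup_right (Subgroup.mem_zpowers x))
  set M := Subgroup.normalizer (J : Set Y)
  have htM : t ∈ M := Subgroup.mem_normalizer_iff.2 fun v => by
    constructor
    · intro hv; rw [htJ v hv, mul_inv_cancel_right]; exact hv
    · intro hv
      have e := htJ _ hv
      have e' : t * v * t⁻¹ = v := by
        calc t * v * t⁻¹ = t⁻¹ * (t * (t * v * t⁻¹)) := by group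
          _ = t⁻¹ * ((t * v * t⁻¹) * t) := by rw [e]
          _ = v := by group
      rwa [e'] at hv
  set O := (pCore p M).map M.subtype
  have hJO : J ≤ O := by
    haveI : (J.subgroupOf M).Normal := Subgroup.normal_in_normalizer
    have h1 : J.subgroupOf M ≤ pCore p M := le_pCore (hJp.comap_of_injective M.subtype M.subtype_injective)
    intro v hv
    exact ⟨⟨v, Subgroup.le_normalizer hv⟩, h1 hv, rfl⟩
  have hO : IsPGroup p O := (isPGroup_pCore p).map _
  have hOM : ∀ m ∈ M, m ∈ Subgroup.normalizer (O : Set Y) := fun m hm =>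
    Subgroup.le_normalizer_map M.subtype ⟨⟨m, hm⟩, by rw [SetLike.mem_coe, Subgroup.normalizer_eq_top]; trivial, rfl⟩
  have htO := hfix t ht O hO (hOM t htM)
  have hOJ : ∀ x, Quad φ x → x ∈ O → x ∈ J := fun x hx hxO =>
    hbigger x hx O hO hJO hxO ⟨t, ht, htJ, htO x hxO⟩
  obtain ⟨P, hP⟩ := ((hJp.comap_of_injective M.subtype M.subtype_injective) :
    IsPGroup p (J.subgroupOf M)).exists_le_sylow
  set Q := (P : Subgroup M).map M.subtype
  have hJQ : J ≤ Q := fun v hv => ⟨⟨v, Subgroup.le_normalizer hv⟩, hP hv, rfl⟩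
  have hQJ : ∀ x, Quad φ x → x ∈ Q → x ∈ J := by
    intro x hx hxQ
    by_contra hxJ
    obtain ⟨y, hy, hyx⟩ := hxQ
    have hxM : x ∈ M := hyx ▸ y.2
    have hout : (⟨x, hxM⟩ : M) ∉ pCore p M := fun h => hxJ (hOJ x hx ⟨_, h, rfl⟩)
    obtain ⟨s, hsM, hs, hsx⟩ := exists_commuting_involution φ hinj hexp hp hxM hx hout
    exact hxJ (hbigger x hx Q (P.2.map _) hJQ ⟨y, hy, hyx⟩
      ⟨s, hs, fun v hv => hfix s hs O hO (hOM s hsM) v (hJO hv), hsx⟩)
  obtain ⟨T, hT⟩ := (P.2.map M.subtype).exists_le_sylow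
  have hNT : (T : Subgroup Y) ⊓ Subgroup.normalizer (Q : Set Y) ≤ M := by
    rintro y ⟨-, hy⟩
    refine Subgroup.mem_normalizer_iff.2 ?_
    have hsub : ∀ y ∈ Subgroup.normalizer (Q : Set Y), ∀ v ∈ J, y * v * y⁻¹ ∈ J := by
      intro y hy
      have : J ≤ J.comap (MulAut.conj y).toMonoidHom := by
        conv_lhs => rw [hJgen]
        rw [Subgroup.closure_le]
        rintro v ⟨hv, hvq⟩
        exact hQJ _ (quad_conj φ hvq y) ((Subgroup.mem_normalizer_iff.1 hy v).1 (hJQ hv))
      exact fun v hv => this hv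
    intro v
    refine ⟨hsub y hy v, fun h => ?_⟩
    simpa [mul_assoc] using hsub y⁻¹ (Subgroup.inv_mem _ hy) _ h
  have hQT : Q = T := by
    by_contra hne
    have hlt : Q < (T : Subgroup Y) := lt_of_le_of_ne hT hne
    haveI := T.2.isNilpotent
    have h1 : Q.subgroupOf T < Subgroup.normalizer ((Q.subgroupOf T : Subgroup T) : Set T) :=
      Group.normalizerCondition_of_isNilpotent _ (lt_top_iff_ne_top.2 fun e => hne (le_antisymm hT
        (Subgroup.subgroupOf_eq_top.1 e)))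
    obtain ⟨y, hy, hyQ⟩ := SetLike.exists_of_lt h1
    refine hyQ ?_
    have hyN : (y : Y) ∈ Subgroup.normalizer (Q : Set Y) := by
      rw [← Subgroup.subgroupOf_normalizer_eq hT] at hy
      exact hy
    have hyM := hNT ⟨y.2, hyN⟩
    have hK : IsPGroup p (((T : Subgroup Y) ⊓ M).subgroupOf M) :=
      (T.2.to_le inf_le_left).comap_of_injective M.subtype M.subtype_injective
    have e := P.3 hK (fun z hz => ⟨hT ⟨z, hz, rfl⟩, z.2⟩)
    exact ⟨⟨y, hyM⟩, e.le ⟨y.2, hyM⟩, rfl⟩
  have hTM : (T : Subgroup Y) ≤ M := hQT ▸ Subgroup.map_subtype_le _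
  have hMtop : M ≠ ⊤ := fun e => hJ1 (by
    haveI : J.Normal := Subgroup.normalizer_eq_top_iff.1 e
    exact le_bot_iff.1 (hcore ▸ le_pCore hJp))
  have h2 : 2 ∣ Nat.card M := by rw [← ht, ← Subgroup.orderOf_mk t htM]; exact orderOf_dvd_natCard _
  exact (Nat.not_even_iff_odd.2 (hodd T M hTM hMtop)) (even_iff_two_dvd.2 h2)

end CfsgLib.RealQuad
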