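import Cfsg.Agent.Lib.RealQuad.Involution
import Cfsg.Agent.Lib.ZJ.Stable
import Cfsg.Agent.Lib.Fusion.ZJCriterion
import Cfsg.Agent.Lib.JComp.Auto
import Cfsg.Agent.Lib.PSolvable
import Cfsg.Agent.Lib.PLocal.StableNormal

/-!
If a `p`-element of `G` is inverted, for an odd prime `p`, then one is inverted in `N(Z(J(T)))`.
-/

set_option autoImplicit false
set_option linter.unusedSectionVars false
set_option maxHeartbeats 1000000

namespace CfsgLib.RealQuad

open CfsgLib CfsgLib.Local Cfsg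
open scoped commutatorElement Pointwise

universe u v

variable {G : Type u} [Group G] {p : ℕ}

theorem Rl.mono {H K : Subgroup G} (hHK : H ≤ K) (h : Rl p H) : Rl p K := by
  obtain ⟨s, hs, hk, P, hP, hPp, hsP, v, hv, hne⟩ := h
  exact ⟨s, hHK hs, hk, P, hP.trans hHK, hPp, hsP, v, hv, hne⟩

theorem Rl.map {X : Type v} [Group X] {f : X →* G} (hf : Function.Injective f) {H : Subgroup X} (h : Rl p H) :
    Rl p (H.map f) := by
  obtain ⟨s, hs, ⟨k, hk⟩, P, hP, hPp, hsP, v, hv, hne⟩ := h
  exact ⟨f s, ⟨s, hs, rfl⟩, ⟨k, by rw [← map_pow, hk, map_one]⟩, P.map f, Subgroup.map_mono hP, hPp.map f,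
    Subgroup.le_normalizer_map f ⟨s, hsP, rfl⟩, f v, ⟨v, hv, rfl⟩, fun e => hne (hf (by rw [map_mul, map_mul, e]))⟩

theorem Rl.top_of_subgroup {H : Subgroup G} (h : Rl p H) : Rl p (⊤ : Subgroup H) := by
  obtain ⟨s, hs, ⟨k, hk⟩, P, hP, hPp, hsP, v, hv, hne⟩ := h
  refine ⟨⟨s, hs⟩, Subgroup.mem_top _, ⟨k, Subtype.ext hk⟩, P.subgroupOf H, le_top,
    hPp.comap_of_injective H.subtype H.subtype_injective, ?_, ⟨v, hP hv⟩, hv, fun e => hne (congrArg Subtype.val e)⟩
  refine Subgroup.mem_normalizer_iff.2 fun x => ?_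
  exact Subgroup.mem_normalizer_iff.1 hsP (x : G)

/-- The 2-part of an element with the same image. -/
theorem exists_two_part [Finite G] {X : Type v} [Group X] (f : G →* X) (n : G) (k : ℕ) (hk : f n ^ 2 ^ k = 1) :
    ∃ m : ℕ, (∃ i, (n ^ m) ^ 2 ^ i = 1) ∧ f (n ^ m) = f n := by
  obtain ⟨i, o, ho, hno⟩ := Nat.exists_eq_pow_mul_and_not_dvd (orderOf_pos n).ne' 2 (by norm_num)
  have hco : Nat.Coprime o (2 ^ k) := (Nat.coprime_two_right.2 (Nat.odd_iff.2 (by omega))).pow_right k
  obtain ⟨m, hm1, hm2⟩ := Nat.chineseRemainder hco 0 1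
  refine ⟨m, ⟨i, ?_⟩, ?_⟩
  · rw [← pow_mul]
    refine orderOf_dvd_iff_pow_eq_one.1 ?_
    rw [hno, mul_comm m]
    exact Nat.mul_dvd_mul_left _ (Nat.modEq_zero_iff_dvd.1 hm1)
  · rw [map_pow]
    conv_rhs => rw [← pow_one (f n)]
    rw [pow_eq_pow_iff_modEq]
    exact hm2.of_dvd (orderOf_dvd_of_pow_eq_one hk)

theorem Rl.comap [Finite G] [Fact p.Prime] {X : Type u} [Group X] (f : G →* X) (hf : Function.Surjective f)
    {H : Subgroup X} (h : Rl p H) : Rl p (H.comap f) := by
  obtain ⟨s, hs, ⟨k, hk⟩, P, hP, hPp, hsP, v, hv, hne⟩ := h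
  obtain ⟨T, hT, hTP, h1, h2⟩ := Quadratic.exists_local_lift f hf P hPp
  obtain ⟨n, hn, hns⟩ := (show Subgroup.normalizer (P : Set X) ≤ _ from h1.trans (sup_le le_rfl h2)) hsP
  obtain ⟨m, hm, hme⟩ := exists_two_part f n k (hns ▸ hk)
  refine ⟨n ^ m, ?_, hm, T, fun t ht => hP (hTP.le ⟨t, ht, rfl⟩), hT, Subgroup.pow_mem _ hn m, ?_⟩
  · rw [Subgroup.mem_comap, hme, hns]; exact hs
  · obtain ⟨t, ht, rfl⟩ := hTP.ge hv
    exact ⟨t, ht, fun e => hne (by rw [← hns, ← hme, ← map_mul, ← map_mul, e])⟩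

theorem rl_of_inverted [Finite G] {H : Subgroup G} {x g : G} (hxp : IsPGroup p (Subgroup.zpowers x)) (hp : p ≠ 2)
    [Fact p.Prime] (hx : x ∈ H) (hx1 : x ≠ 1) (hg : g ∈ H) (h : g * x * g⁻¹ = x⁻¹) : Rl p H := by
  let π : G →* G := MonoidHom.id G
  obtain ⟨i, o, ho, hno⟩ := Nat.exists_eq_pow_mul_and_not_dvd (orderOf_pos g).ne' 2 (by norm_num)
  have hodd : Odd o := Nat.odd_iff.2 (by omega)
  set s := g ^ o
  have hs2 : s ^ 2 ^ i = 1 := by rw [← pow_mul, mul_comm, ← hno, pow_orderOf_eq_one]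
  have hconj : ∀ n : ℕ, g ^ n * x * (g ^ n)⁻¹ = if Even n then x else x⁻¹ := by
    intro n
    induction n with
    | zero => simp
    | succ n ih =>
      calc g ^ (n + 1) * x * (g ^ (n + 1))⁻¹ = g * (g ^ n * x * (g ^ n)⁻¹) * g⁻¹ := by rw [pow_succ']; group
        _ = _ := by
          rw [ih]
          by_cases hev : Even n
          · rw [if_pos hev, if_neg (by simp [Nat.even_add_one, hev]), h]
          · rw [if_neg hev, if_pos (by simp [Nat.even_add_one, hev])]
            calc g * x⁻¹ * g⁻¹ = (g * x * g⁻¹)⁻¹ := by group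
              _ = x := by rw [h, inv_inv]
  have hsx : s * x * s⁻¹ = x⁻¹ := by rw [hconj, if_neg (Nat.not_even_iff_odd.2 hodd)]
  refine ⟨s, H.pow_mem hg o, ⟨i, hs2⟩, Subgroup.zpowers x, Subgroup.zpowers_le.2 hx, hxp, ?_, x,
    Subgroup.mem_zpowers x, fun e => ?_⟩
  · refine mem_normalizer_of_map_conj_eq ?_
    rw [MonoidHom.map_zpowers]
    show Subgroup.zpowers (s * x * s⁻¹) = _
    rw [hsx, Subgroup.zpowers_inv]
  · rw [e, mul_inv_cancel_right] at hsx
    have h2 : x ^ 2 = 1 := by rw [sq]; nth_rewrite 1 [hsx]; exact inv_mul_cancel x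
    obtain ⟨k, hk⟩ := hxp ⟨x, Subgroup.mem_zpowers x⟩
    exact hx1 (orderOf_eq_one_iff.1 (Nat.eq_one_of_dvd_coprimes
      ((Nat.coprime_two_left.2 ((Fact.out : p.Prime).odd_of_ne_two hp)).pow_right k)
      (orderOf_dvd_of_pow_eq_one h2) (orderOf_dvd_of_pow_eq_one (congrArg Subtype.val hk))))

/-- Some element is inverted. -/
theorem Rl.exists_inverted {H : Subgroup G} (h : Rl p H) :
    ∃ u ∈ H, u ≠ 1 ∧ IsPGroup p (Subgroup.zpowers u) ∧ ∃ t ∈ H, t * u * t⁻¹ = u⁻¹ := by
  obtain ⟨s, hs, ⟨k, hk⟩, P, hP, hPp, hsP, v, hv, hne⟩ := h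
  induction k generalizing s v with
  | zero => rw [pow_zero, pow_one] at hk; subst hk; exact absurd (by simp) hne
  | succ k ih =>
    by_cases hall : ∀ w ∈ P, s ^ 2 * w = w * s ^ 2
    · set u := v⁻¹ * (s * v * s⁻¹)
      have huP : u ∈ P := P.mul_mem (P.inv_mem hv) ((Subgroup.mem_normalizer_iff.1 hsP v).1 hv)
      refine ⟨u, hP huP, fun e => hne ?_, hPp.to_le (Subgroup.zpowers_le.2 huP), s, hs, ?_⟩
      · exact mul_inv_eq_iff_eq_mul.1 (inv_mul_eq_one.1 e).symm
      · calc s * u * s⁻¹ = (s * v * s⁻¹)⁻¹ * (s ^ 2 * v * (s ^ 2)⁻¹) := by simp only [u, sq]; group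
          _ = u⁻¹ := by rw [hall v hv, mul_inv_cancel_right]; simp only [u, mul_inv_rev, inv_inv]
    · push Not at hall
      obtain ⟨w, hw, hwne⟩ := hall
      exact ih (s ^ 2) (H.pow_mem hs 2) (by rw [← pow_mul, ← pow_succ']; exact hk) (Subgroup.pow_mem _ hsP 2)
        w hw hwne

/-- A quadratic element outside the stable core acts nontrivially on a chief factor. -/
theorem exists_chief_quad [Finite G] [Fact p.Prime] : ∀ (n : ℕ) (V : Subgroup G) [V.Normal], Nat.card V = n →
    IsPGroup p V → ∀ a : G, (∀ v ∈ V, ⁅⁅v, a⁆, a⁆ = 1) → a ∉ ZJ.stabCore p V →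
    ∃ (W : Type u) (_ : CommGroup W) (_ : Finite W) (φ : G →* MulAut W),
      (∀ w : W, w ^ p = 1) ∧ φ a ≠ 1 ∧ (∀ w : W, φ a (φ a w / w) = φ a w / w) ∧ pCore p φ.range = ⊥ := by
  intro n
  induction n using Nat.strong_induction_on with
  | _ n ih =>
  intro V _ hn hV a hquad hout
  subst hn
  by_cases hV0 : V = ⊥
  · refine absurd ?_ hout
    have : a ∈ Subgroup.centralizer (V : Set G) := by
      intro y hy
      rw [hV0, Subgroup.coe_bot, Set.mem_singleton_iff] at hy
      rw [hy, one_mul, mul_one]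
    show QuotientGroup.mk' _ a ∈ pCore p _
    rw [show QuotientGroup.mk' (Subgroup.centralizer (V : Set G)) a = 1 from (QuotientGroup.eq_one_iff _).2 this]
    exact one_mem _
  obtain ⟨N, ⟨hNn, hNV, hNne⟩, hmax⟩ := (Set.toFinite
    {N : Subgroup G | N.Normal ∧ N ≤ V ∧ N ≠ V}).exists_maximal ⟨⊥, inferInstance, bot_le, Ne.symm hV0⟩
  have hNlt : Nat.card N < Nat.card V := lt_of_le_of_ne (Subgroup.card_le_of_le hNV) fun h =>
    hNne (Subgroup.eq_of_le_of_card_ge hNV h.ge)
  let π := QuotientGroup.mk' N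
  have hπs : Function.Surjective π := QuotientGroup.mk'_surjective N
  set Vb := V.map π with hVb
  haveI hVbn : Vb.Normal := Subgroup.Normal.map inferInstance _ hπs
  have hVbne : Vb ≠ ⊥ := fun e => by
    rw [hVb, Subgroup.map_eq_bot_iff, QuotientGroup.ker_mk'] at e
    exact hNne (le_antisymm hNV e)
  have hVbmin : ∀ W : Subgroup (G ⧸ N), W.Normal → W ≤ Vb → W = ⊥ ∨ W = Vb := by
    intro W hW hWle
    by_cases hWe : W = Vb
    · exact Or.inr hWe
    left
    have hle : W.comap π ≤ V := (Subgroup.comap_mono hWle).trans (by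
      rw [hVb, Subgroup.comap_map_eq, QuotientGroup.ker_mk', sup_eq_left.mpr hNV])
    have hne : W.comap π ≠ V := fun e => hWe (by
      rw [hVb, ← e, Subgroup.map_comap_eq_self_of_surjective hπs])
    have hNle : N ≤ W.comap π := fun x hx => by
      rw [Subgroup.mem_comap, show π x = 1 from (QuotientGroup.eq_one_iff x).mpr hx]
      exact one_mem _
    have h1 := hmax ⟨hW.comap π, hle, hne⟩ hNle
    rw [eq_bot_iff]
    intro x hx
    obtain ⟨g, rfl⟩ := hπs x
    exact (QuotientGroup.eq_one_iff g).mpr (h1 hx)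
  by_cases hcent : π a ∈ Subgroup.centralizer (Vb : Set (G ⧸ N))
  · by_cases hN : a ∈ ZJ.stabCore p N
    · exfalso
      refine hout ?_
      set S := ZJ.stabCore p N ⊓ (Subgroup.centralizer (Vb : Set (G ⧸ N))).comap π with hS
      have hSp : IsPGroup p (S.map (QuotientGroup.mk' (Subgroup.centralizer (V : Set G)))) := by
        refine ZJ.isPGroup_map_of_pResidual fun g hg hgp => ?_
        obtain ⟨k, hk⟩ := ZJ.exists_pow_eq_one_of_mem (isPGroup_pCore p) hg.1
        have hgN : g ∈ Subgroup.centralizer (N : Set G) :=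
          (QuotientGroup.eq_one_iff g).mp (orderOf_eq_one_iff.mp (Nat.eq_one_of_dvd_coprimes
            (hgp.pow_right k) (orderOf_map_dvd (QuotientGroup.mk' (Subgroup.centralizer (N : Set G))) g)
            (orderOf_dvd_of_pow_eq_one hk)))
        intro v hv
        set c := v⁻¹ * (g * v * g⁻¹) with hc
        have hcN : c ∈ N := by
          refine (QuotientGroup.eq_one_iff (N := N) c).mp ?_
          have h1 := hg.2 (π v) (Subgroup.mem_map_of_mem π hv)
          show π c = 1
          rw [hc, map_mul, map_mul, map_mul, map_inv, map_inv, ← h1]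
          group
        have hgc : g * c * g⁻¹ = c := by rw [← hgN c hcN, mul_inv_cancel_right]
        have hiter : ∀ n : ℕ, g ^ n * v * (g ^ n)⁻¹ = v * c ^ n := by
          intro n
          induction n with
          | zero => simp
          | succ n ihn =>
            calc g ^ (n + 1) * v * (g ^ (n + 1))⁻¹ = g * (g ^ n * v * (g ^ n)⁻¹) * g⁻¹ := by
                  rw [pow_succ']; group
              _ = (g * v * g⁻¹) * (g * c ^ n * g⁻¹) := by rw [ihn]; group
              _ = (v * c) * c ^ n := by rw [← conj_pow (a := g) (b := c), hgc, hc, mul_inv_cancel_left]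
              _ = v * c ^ (n + 1) := by rw [mul_assoc, ← pow_succ']
        have h1 := hiter (orderOf g)
        rw [pow_orderOf_eq_one, inv_one, mul_one, one_mul, left_eq_mul] at h1
        obtain ⟨l, hl⟩ := ZJ.exists_pow_eq_one_of_mem (hV.to_le hNV) hcN
        have h2 : c = 1 := orderOf_eq_one_iff.mp (Nat.eq_one_of_dvd_coprimes (hgp.pow_right l)
          (orderOf_dvd_of_pow_eq_one h1) (orderOf_dvd_of_pow_eq_one hl))
        rw [hc, inv_mul_eq_one] at h2
        calc v * g = (g * v * g⁻¹) * g := by rw [← h2]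
          _ = g * v := by group
      haveI : (ZJ.stabCore p N).Normal := Subgroup.normal_comap _
      haveI : (Subgroup.centralizer (Vb : Set (G ⧸ N))).Normal := Subgroup.normal_centralizer
      haveI : ((Subgroup.centralizer (Vb : Set (G ⧸ N))).comap π).Normal := Subgroup.normal_comap _
      haveI : S.Normal := inferInstance
      exact le_pCore (N := S.map (QuotientGroup.mk' (Subgroup.centralizer (V : Set G))))
        (hN := Subgroup.Normal.map inferInstance _ (QuotientGroup.mk'_surjective _)) hSp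
        (Subgroup.mem_map_of_mem _ ⟨hN, hcent⟩)
    · exact ih _ hNlt N rfl (hV.to_le hNV) a (fun v hv => hquad v (hNV hv)) hN
  · have hVbp : IsPGroup p Vb := hV.map π
    haveI : Group.IsNilpotent Vb := hVbp.isNilpotent
    obtain ⟨hVbc, q, hqp, hVbq⟩ := minimal_normal_elementary hVbne inferInstance hVbmin
    have hVbexp : ∀ x ∈ Vb, x ^ p = 1 := by
      intro x hx
      by_cases hx1 : x = 1
      · rw [hx1, one_pow]
      obtain ⟨k, hk⟩ := ZJ.exists_pow_eq_one_of_mem hVbp hx
      have h1 : orderOf x = q := by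
        rcases (Nat.dvd_prime hqp).mp (orderOf_dvd_of_pow_eq_one (hVbq x hx)) with h | h
        · exact absurd (orderOf_eq_one_iff.mp h) hx1
        · exact h
      have h2 : q = p := (Nat.prime_dvd_prime_iff_eq hqp Fact.out).mp
        (hqp.dvd_of_dvd_pow (h1 ▸ orderOf_dvd_of_pow_eq_one hk))
      rw [← h2]
      exact hVbq x hx
    letI : CommGroup Vb := { (inferInstance : Group Vb) with mul_comm := hVbc.is_comm.comm }
    let φ : G →* MulAut Vb := MulAut.conjNormal.comp π
    have hval : ∀ g (v : Vb), ((φ g v : Vb) : G ⧸ N) = π g * v * (π g)⁻¹ := fun g v => MulAut.conjNormal_apply _ v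
    refine ⟨Vb, inferInstance, inferInstance, φ, fun w => Subtype.ext (hVbexp w w.2), fun e => hcent fun v hv => ?_,
      fun w => ?_, ?_⟩
    · have h1 := congrArg Subtype.val (show φ a ⟨v, hv⟩ = ⟨v, hv⟩ by rw [e]; rfl)
      rw [hval] at h1
      exact (mul_inv_eq_iff_eq_mul.1 h1).symm
    · obtain ⟨_, v, hv, rfl⟩ := w
      refine Subtype.ext ?_
      rw [hval, Subgroup.coe_div, hval, div_eq_mul_inv]
      have h := hquad v hv
      rw [commutatorElement_eq_one_iff_mul_comm] at h
      have h' : ⁅v, a⁆⁻¹ * a = a * ⁅v, a⁆⁻¹ := ((show Commute ⁅v, a⁆ a from h).inv_left).eq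
      rw [commutatorElement_inv, commutatorElement_def] at h'
      have h2 := congrArg π (mul_inv_eq_iff_eq_mul.2 h'.symm)
      simpa only [map_mul, map_inv] using h2
    · set O := pCore p φ.range
      haveI : Finite φ.range := Finite.of_surjective _ φ.rangeRestrict_surjective
      set D := (O.map φ.range.subtype).comap φ
      have hDn : D.Normal := ⟨fun d hd g => by
        obtain ⟨o, ho, hoe⟩ := hd
        refine ⟨⟨φ g, g, rfl⟩ * o * (⟨φ g, g, rfl⟩)⁻¹, (inferInstance : O.Normal).conj_mem o ho _, ?_⟩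
        show φ g * (o : MulAut Vb) * (φ g)⁻¹ = φ (g * d * g⁻¹)
        rw [show (o : MulAut Vb) = φ d from hoe, map_mul, map_mul, map_inv]⟩
      have hOp : IsPGroup p (O.map φ.range.subtype) := (isPGroup_pCore p).map _
      -- a nontrivial fixed point
      have hfix : ∀ f ∈ O.map φ.range.subtype, f = 1 := by
        set Ob := O.map φ.range.subtype
        letI : MulAction Ob Vb := MulAction.compHom Vb Ob.subtype
        have hdvd : p ∣ Nat.card Vb := by
          obtain ⟨k, hk0, hk⟩ := hVbp.nontrivial_iff_card.1 ((Subgroup.nontrivial_iff_ne_bot _).2 hVbne)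
          exact hk ▸ dvd_pow_self p hk0.ne'
        have hone : (1 : Vb) ∈ MulAction.fixedPoints Ob Vb := fun o => map_one (o : MulAut Vb)
        obtain ⟨w, hw, hw1⟩ := hOp.exists_fixed_point_of_prime_dvd_card_of_fixed_point Vb hdvd hone
        let F : Subgroup (G ⧸ N) :=
          { carrier := {x | ∃ hx : x ∈ Vb, ∀ f ∈ Ob, f ⟨x, hx⟩ = ⟨x, hx⟩}
            one_mem' := ⟨Vb.one_mem, fun f _ => map_one f⟩
            mul_mem' := fun {x y} ⟨hx, hx'⟩ ⟨hy, hy'⟩ => ⟨Vb.mul_mem hx hy, fun f hf => by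
              rw [show (⟨x * y, Vb.mul_mem hx hy⟩ : Vb) = ⟨x, hx⟩ * ⟨y, hy⟩ from rfl, map_mul, hx' f hf, hy' f hf]⟩
            inv_mem' := fun {x} ⟨hx, hx'⟩ => ⟨Vb.inv_mem hx, fun f hf => by
              rw [show (⟨x⁻¹, Vb.inv_mem hx⟩ : Vb) = (⟨x, hx⟩ : Vb)⁻¹ from rfl, map_inv, hx' f hf]⟩ }
        have hFn : F.Normal := by
          refine ⟨fun x hxF y => ?_⟩
          obtain ⟨hx, hx'⟩ := hxF
          obtain ⟨g, rfl⟩ := hπs y
          refine ⟨hVbn.conj_mem x hx _, fun f hf => ?_⟩
          obtain ⟨o, ho, rfl⟩ := hf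
          have hconj : (φ g)⁻¹ * (o : MulAut Vb) * φ g ∈ Ob := by
            have h3 := (inferInstance : O.Normal).conj_mem o ho (⟨φ g, g, rfl⟩ : φ.range)⁻¹
            rw [inv_inv] at h3
            exact ⟨_, h3, rfl⟩
          have h4 := congrArg (φ g) (hx' _ hconj)
          have e1 : φ g ⟨x, hx⟩ = (⟨π g * x * (π g)⁻¹, hVbn.conj_mem x hx _⟩ : Vb) := Subtype.ext (hval g ⟨x, hx⟩)
          rw [MulAut.mul_apply, MulAut.mul_apply, MulAut.apply_inv_self, e1] at h4
          exact h4
        have hFV : F ≤ Vb := fun x hx => hx.1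
        rcases hVbmin F hFn hFV with e | e
        · refine absurd (Subtype.ext ?_) hw1
          have hwF : (w : G ⧸ N) ∈ F := ⟨w.2, fun f hf => hw ⟨f, hf⟩⟩
          rw [e, Subgroup.mem_bot] at hwF
          exact hwF.symm
        · exact fun f hf => MulEquiv.ext fun v => by
            obtain ⟨hx, hx'⟩ := e.ge v.2
            exact hx' f hf
      exact (Subgroup.eq_bot_iff_forall _).2 fun o ho => Subtype.ext (hfix _ ⟨o, ho, rfl⟩)

/-- The main induction. -/
theorem rl_normalizer_zj (p : ℕ) [Fact p.Prime] (hp : p ≠ 2) : ∀ (n : ℕ) (G : Type u) [Group G] [Finite G],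
    Nat.card G = n → Rl p (⊤ : Subgroup G) → ∀ T : Sylow p G,
      Rl p (Subgroup.normalizer (centerThompsonAOf (T : Subgroup G) : Set G)) := by
  intro n
  induction n using Nat.strong_induction_on with
  | _ n ih =>
  intro G _ _ hn hG T
  by_contra hN
  set N := Subgroup.normalizer (centerThompsonAOf (T : Subgroup G) : Set G)
  have hTN : (T : Subgroup G) ≤ N :=
    Subgroup.le_normalizer.trans (ZJ.normalizer_le_normalizer_centerThompsonAOf _)
  -- climbing inside proper subgroups
  have hclimb : ∀ (M : Subgroup G) (P : Sylow p M), M ≠ ⊤ → Rl p M →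
      Rl p (Subgroup.normalizer (centerThompsonAOf ((P : Subgroup M).map M.subtype) : Set G)) := by
    intro M P hM hR
    have hlt : Nat.card M < n := hn ▸ lt_of_le_of_ne (Subgroup.card_le_card_group M)
      fun e => hM ((Subgroup.card_eq_iff_eq_top M).1 e)
    refine ((ih _ hlt M rfl hR.top_of_subgroup P).map M.subtype_injective).mono ?_
    rw [ZJ.centerThompsonAOf_map M.subtype M.subtype_injective.injOn]
    exact Subgroup.le_normalizer_map M.subtype
  -- proper overgroups of `T`
  have hover : ∀ M : Subgroup G, (T : Subgroup G) ≤ M → M ≠ ⊤ → ¬ Rl p M := by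
    intro M hTM hM hR
    have h := hclimb M (T.subtype hTM) hM hR
    rw [Sylow.coe_subtype, Subgroup.map_subgroupOf_eq_of_le hTM] at h
    exact hN h
  set R := pCore p G with hRdef
  have hRT : R ≤ (T : Subgroup G) := pCore_le_sylow T
  have hR1 : R ≠ ⊥ := by
    intro hR
    have hbot : ∀ (P : Subgroup G), IsPGroup p P → P.Normal → P = ⊥ := fun P hP hPn =>
      le_bot_iff.1 (hR ▸ le_pCore (hN := hPn) hP)
    obtain ⟨s, -, hk, P, -, hP, hsP, v, hv, hne⟩ := hG
    have hPne : P ≠ ⊥ := fun e => hne (by rw [Subgroup.mem_bot.1 (e.le hv), one_mul, mul_one])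
    have hNP : Subgroup.normalizer (P : Set G) ≠ ⊤ := fun e =>
      hPne (hbot P hP (Subgroup.normalizer_eq_top_iff.1 e))
    let 𝔐 : Set (Subgroup G) := {M | M ≠ ⊤ ∧ Rl p M}
    have hmem : Subgroup.normalizer (P : Set G) ∈ 𝔐 :=
      ⟨hNP, s, hsP, hk, P, Subgroup.le_normalizer, hP, hsP, v, hv, hne⟩
    obtain ⟨M, ⟨hMt, hMR⟩, hmax⟩ := Set.exists_max_image 𝔐
      (fun M => p ^ (Nat.card M).factorization p) (Set.toFinite _) ⟨_, hmem⟩
    obtain ⟨Q⟩ := (inferInstance : Nonempty (Sylow p M))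
    set Qk := (Q : Subgroup M).map M.subtype with hQk
    have hQk1 : Qk ≠ ⊥ := by
      intro e
      obtain ⟨s', -, -, P', hP', hP'p, -, v', hv', hne'⟩ := hMR
      obtain ⟨Q', hQ'⟩ := (hP'p.comap_of_injective M.subtype M.subtype_injective).exists_le_sylow
      have h1 : Nat.card (Q' : Subgroup M) = 1 := by
        rw [Q'.card_eq_multiplicity, ← Q.card_eq_multiplicity, ← Subgroup.card_map_of_injective M.subtype_injective,
          ← hQk, e, Subgroup.card_bot]
      have h2 := hQ' (show (⟨v', hP' hv'⟩ : M) ∈ P'.subgroupOf M from hv')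
      rw [Subgroup.card_eq_one.1 h1, Subgroup.mem_bot, Subtype.ext_iff] at h2
      have h3 : v' = 1 := by simpa using h2
      exact hne' (by rw [h3, one_mul, mul_one])
    set M' := Subgroup.normalizer (centerThompsonAOf Qk : Set G)
    have hM'R : Rl p M' := hclimb M Q hMt hMR
    have hQk2 : IsPGroup p Qk := Q.2.map _
    have hM't : M' ≠ ⊤ := fun e => ZJ.centerThompsonAOf_ne_bot hQk2 hQk1
      (hbot _ (hQk2.to_le (ZJ.centerThompsonAOf_le _)) (Subgroup.normalizer_eq_top_iff.1 e))
    obtain ⟨S, hS⟩ := hQk2.exists_le_sylow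
    by_cases hQS : Qk = S
    · obtain ⟨g, hg⟩ := MulAction.exists_smul_eq G S T
      refine hN ((hM'R.map (f := (MulAut.conj g).toMonoidHom) (MulAut.conj g).injective).mono ?_)
      have e : (T : Subgroup G) = Qk.map (MulAut.conj g).toMonoidHom := by rw [← hg, hQS]; rfl
      show _ ≤ Subgroup.normalizer (centerThompsonAOf (T : Subgroup G) : Set G)
      rw [e, ZJ.centerThompsonAOf_map (MulAut.conj g).toMonoidHom (MulAut.conj g).injective.injOn]
      exact Subgroup.le_normalizer_map _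
    · have hlt : Qk < (S : Subgroup G) := lt_of_le_of_ne hS hQS
      haveI := S.2.isNilpotent
      have h1 : Qk.subgroupOf S < Subgroup.normalizer ((Qk.subgroupOf S : Subgroup S) : Set S) :=
        Group.normalizerCondition_of_isNilpotent _ (lt_top_iff_ne_top.2 fun e =>
          hQS (le_antisymm hS (Subgroup.subgroupOf_eq_top.1 e)))
      set Q2 := (Subgroup.normalizer ((Qk.subgroupOf S : Subgroup S) : Set S)).map (S : Subgroup G).subtype
      have hQ2M : Q2 ≤ M' := by
        rintro _ ⟨y, hy, rfl⟩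
        refine ZJ.normalizer_le_normalizer_centerThompsonAOf _ ?_
        rw [SetLike.mem_coe, ← Subgroup.subgroupOf_normalizer_eq hS] at hy
        exact hy
      have hcard : Nat.card Qk < Nat.card Q2 := by
        rw [Subgroup.card_map_of_injective (S : Subgroup G).subtype_injective,
          ← Nat.card_congr (Subgroup.subgroupOfEquivOfLe hS).toEquiv]
        exact lt_of_le_of_ne (Subgroup.card_le_of_le h1.le) fun e => h1.ne (Subgroup.eq_of_le_of_card_ge h1.le e.ge)
      have hQ2 : IsPGroup p Q2 := S.2.to_le (Subgroup.map_subtype_le _)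
      obtain ⟨Q', hQ'⟩ := (hQ2.comap_of_injective M'.subtype M'.subtype_injective).exists_le_sylow
      have h2 := hmax M' ⟨hM't, hM'R⟩
      rw [← Q'.card_eq_multiplicity, ← Q.card_eq_multiplicity] at h2
      have h3 : Nat.card Q2 ≤ Nat.card (Q' : Subgroup M') := by
        rw [← Nat.card_congr (Subgroup.subgroupOfEquivOfLe hQ2M).toEquiv]
        exact Subgroup.card_le_of_le hQ'
      rw [hQk, Subgroup.card_map_of_injective M.subtype_injective] at hcard
      omega
  -- the quotient by `O_p` is not real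
  have hTR : (T : Subgroup G) ≠ R := fun e => hN (hG.mono (by
    haveI : (T : Subgroup G).Normal := e ▸ inferInstance
    have h1 : Subgroup.normalizer ((T : Subgroup G) : Set G) = ⊤ := Subgroup.normalizer_eq_top _
    exact h1.ge.trans (ZJ.normalizer_le_normalizer_centerThompsonAOf _)))
  set π := QuotientGroup.mk' R
  have hπ : Function.Surjective π := QuotientGroup.mk'_surjective R
  have hX0 : pCore p (G ⧸ R) = ⊥ := CfsgLib.ZJ.pCore_quotient_pCore_eq_bot
  have hXR : ¬ Rl p (⊤ : Subgroup (G ⧸ R)) := by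
    intro h
    set TX := T.mapSurjective hπ
    have hlt : Nat.card (G ⧸ R) < n := by
      rw [← hn, Subgroup.card_eq_card_quotient_mul_card_subgroup R]
      exact lt_mul_of_one_lt_right Nat.card_pos (Subgroup.one_lt_card_iff_ne_bot R |>.2 hR1)
    have hXN := (ih _ hlt _ rfl h TX).comap π hπ
    set M := (Subgroup.normalizer (centerThompsonAOf (TX : Subgroup (G ⧸ R)) : Set (G ⧸ R))).comap π
    have hTM : (T : Subgroup G) ≤ M := fun t ht =>
      (Subgroup.le_normalizer.trans (ZJ.normalizer_le_normalizer_centerThompsonAOf (TX : Subgroup (G ⧸ R))))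
        ((Sylow.coe_mapSurjective hπ T).ge ⟨t, ht, rfl⟩)
    have hMtop : M = ⊤ := by
      by_contra hne
      exact hover M hTM hne hXN
    have hNt : Subgroup.normalizer (centerThompsonAOf (TX : Subgroup (G ⧸ R)) : Set (G ⧸ R)) = ⊤ := by
      rw [← Subgroup.map_comap_eq_self_of_surjective hπ
        (Subgroup.normalizer (centerThompsonAOf (TX : Subgroup (G ⧸ R)) : Set (G ⧸ R)))]
      show M.map π = ⊤
      rw [hMtop, Subgroup.map_top_of_surjective π hπ]
    haveI := Subgroup.normalizer_eq_top_iff.1 hNt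
    have h1 : centerThompsonAOf (TX : Subgroup (G ⧸ R)) ≤ ⊥ :=
      hX0 ▸ le_pCore (TX.2.to_le (ZJ.centerThompsonAOf_le _))
    refine ZJ.centerThompsonAOf_ne_bot TX.2 (fun e => hTR ?_) (le_bot_iff.1 h1)
    refine le_antisymm (fun t ht => (QuotientGroup.eq_one_iff t).1 ?_) hRT
    have h2 : π t ∈ (TX : Subgroup (G ⧸ R)) := (Sylow.coe_mapSurjective hπ T).ge ⟨t, ht, rfl⟩
    rw [e] at h2
    exact Subgroup.mem_bot.1 h2
  -- an element acting nontrivially on `R`
  obtain ⟨s, k, hk, hs⟩ : ∃ (s : G) (k : ℕ), s ^ 2 ^ k = 1 ∧ ∃ r ∈ R, s * r ≠ r * s := by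
    obtain ⟨s, -, ⟨k, hk⟩, P, -, hP, hsP, v, hv, hne⟩ := id hG
    refine ⟨s, k, hk, ?_⟩
    by_contra hall
    push Not at hall
    set c := v⁻¹ * (s * v * s⁻¹)
    have hcR : c ∈ R := by
      refine (QuotientGroup.eq_one_iff c).1 ?_
      show π c = 1
      by_contra hc'
      refine hXR ⟨π s, Subgroup.mem_top _, ⟨k, by rw [← map_pow, hk, map_one]⟩, P.map π, le_top, hP.map π,
        Subgroup.le_normalizer_map π ⟨s, hsP, rfl⟩, π v, ⟨v, hv, rfl⟩, fun e => hc' ?_⟩
      simp only [c, map_mul, map_inv]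
      rw [e, mul_inv_cancel_right, inv_mul_cancel]
    have hsc : s * c = c * s := hall c hcR
    have hiter : ∀ i : ℕ, s ^ i * v * (s ^ i)⁻¹ = v * c ^ i := by
      intro i
      induction i with
      | zero => simp
      | succ i ihi =>
        calc s ^ (i + 1) * v * (s ^ (i + 1))⁻¹ = s * (s ^ i * v * (s ^ i)⁻¹) * s⁻¹ := by rw [pow_succ']; group
          _ = (s * v * s⁻¹) * (s * c ^ i * s⁻¹) := by rw [ihi]; group
          _ = (v * c) * c ^ i := by
              rw [((show Commute s c from hsc).pow_right i).eq, mul_inv_cancel_right]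
              simp only [c, mul_inv_cancel_left]
          _ = v * c ^ (i + 1) := by rw [mul_assoc, ← pow_succ']
    have h1 := hiter (2 ^ k)
    rw [hk, one_mul, inv_one, mul_one, left_eq_mul] at h1
    obtain ⟨i, hi⟩ := isPGroup_pCore p ⟨c, hcR⟩
    have hc1 : c = 1 := orderOf_eq_one_iff.1 (Nat.eq_one_of_dvd_coprimes
      ((((Nat.coprime_primes Nat.prime_two (Fact.out : p.Prime)).2 (Ne.symm hp)).pow_left k).pow_right i)
      (orderOf_dvd_of_pow_eq_one h1) (orderOf_dvd_of_pow_eq_one (congrArg Subtype.val hi)))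
    exact hne (mul_inv_eq_iff_eq_mul.1 (inv_mul_eq_one.1 hc1).symm)
  obtain ⟨r, hr, hsr⟩ := hs
  have hrl : ∀ H : Subgroup G, R ≤ H → ∀ g ∈ H, (∃ i, g ^ 2 ^ i = 1) → (∃ r ∈ R, g * r ≠ r * g) → Rl p H :=
    fun H hRH g hg hi hr => ⟨g, hg, hi, R, hRH, isPGroup_pCore p, by rw [Subgroup.normalizer_eq_top]; trivial, hr⟩
  -- `O_{p'} = 1`
  have hO : pPrimeCore p G = ⊥ := by
    by_contra hO
    set O := pPrimeCore p G
    set σ := QuotientGroup.mk' O
    have hσ : Function.Surjective σ := QuotientGroup.mk'_surjective O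
    have hOP : ∀ (P : Subgroup G), IsPGroup p P → ∀ x ∈ P, x ∈ O → x = 1 := by
      intro P hP x hx hxO
      obtain ⟨i, hi⟩ := hP ⟨x, hx⟩
      exact orderOf_eq_one_iff.1 (Nat.eq_one_of_dvd_coprimes ((card_pPrimeCore_coprime p).pow_right i)
        (by rw [← Subgroup.orderOf_mk x hxO]; exact orderOf_dvd_natCard _)
        (orderOf_dvd_of_pow_eq_one (congrArg Subtype.val hi)))
    have hY : Rl p (⊤ : Subgroup (G ⧸ O)) := by
      haveI : (R.map σ).Normal := Subgroup.Normal.map inferInstance σ hσ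
      refine ⟨σ s, Subgroup.mem_top _, ⟨k, by rw [← map_pow, hk, map_one]⟩, R.map σ, le_top,
        (isPGroup_pCore p).map σ, by rw [Subgroup.normalizer_eq_top]; trivial, σ r, ⟨r, hr, rfl⟩, fun e => hsr ?_⟩
      have h1 : s * r * s⁻¹ * r⁻¹ ∈ R :=
        R.mul_mem ((inferInstance : R.Normal).conj_mem r hr s) (R.inv_mem hr)
      have h2 : s * r * s⁻¹ * r⁻¹ ∈ O := by
        refine (QuotientGroup.eq_one_iff _).1 ?_
        show σ _ = 1
        rw [map_mul, map_mul, map_mul, map_inv, map_inv, e, mul_inv_cancel_right, mul_inv_cancel]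
      exact mul_inv_eq_iff_eq_mul.1 (mul_inv_eq_one.1 (hOP R (isPGroup_pCore p) _ h1 h2))
    set TY := T.mapSurjective hσ
    have hlt : Nat.card (G ⧸ O) < n := by
      rw [← hn, Subgroup.card_eq_card_quotient_mul_card_subgroup O]
      exact lt_mul_of_one_lt_right Nat.card_pos (Subgroup.one_lt_card_iff_ne_bot O |>.2 hO)
    have hYN := (ih _ hlt _ rfl hY TY).comap σ hσ
    have hinj : Set.InjOn σ ((T : Subgroup G) : Set G) := by
      intro x hx y hy e
      exact inv_mul_eq_one.1 (hOP T T.2 _ ((T : Subgroup G).mul_mem ((T : Subgroup G).inv_mem hx) hy)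
        (QuotientGroup.eq.1 e))
    have hZ : centerThompsonAOf (TY : Subgroup (G ⧸ O)) = (centerThompsonAOf (T : Subgroup G)).map σ := by
      rw [← ZJ.centerThompsonAOf_map σ hinj]; rfl
    set M := (Subgroup.normalizer (centerThompsonAOf (TY : Subgroup (G ⧸ O)) : Set (G ⧸ O))).comap σ
    have hTM : (T : Subgroup G) ≤ M := fun t ht =>
      (Subgroup.le_normalizer.trans (ZJ.normalizer_le_normalizer_centerThompsonAOf (TY : Subgroup (G ⧸ O))))
        ((Sylow.coe_mapSurjective hσ T).ge ⟨t, ht, rfl⟩)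
    have hMtop : M = ⊤ := by
      by_contra hne
      exact hover M hTM hne hYN
    -- the normalizer covers the quotient
    have hZp : IsPGroup p ((centerThompsonAOf (T : Subgroup G)).map σ) :=
      (T.2.to_le (ZJ.centerThompsonAOf_le _)).map σ
    have hcover : ∀ g : G, ∃ m ∈ N, σ m = σ g := by
      intro g
      have hg : g ∈ M := hMtop ▸ Subgroup.mem_top g
      set Z := centerThompsonAOf (T : Subgroup G)
      have hg' : σ g ∈ Subgroup.normalizer ((Z.map σ : Subgroup (G ⧸ O)) : Set (G ⧸ O)) := by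
        rw [← hZ]; exact hg
      have hgc : Z.map (MulAut.conj g).toMonoidHom ≤ (Z.map σ).comap σ := by
        rintro _ ⟨z, hz, rfl⟩
        show σ (g * z * g⁻¹) ∈ Z.map σ
        rw [map_mul, map_mul, map_inv]
        exact (Subgroup.mem_normalizer_iff.1 hg' _).1 ⟨z, hz, rfl⟩
      have hcomap : (Z.map σ).comap σ = Z ⊔ O := by rw [Subgroup.comap_map_eq, QuotientGroup.ker_mk']
      rw [hcomap] at hgc
      set H := Z ⊔ O
      have hidx : ¬ p ∣ (Z.subgroupOf H).index := by
        show ¬ p ∣ Z.relIndex H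
        intro hd
        have h1 : Nat.card H ∣ Nat.card Z * Nat.card O := by
          rw [← Products.card_inf_mul_relIndex O Z]
          refine Dvd.intro_left (Nat.card ↥(Z ⊓ O)) ?_ |>.trans (dvd_refl _)
          rw [← Products.card_mul_relIndex_of_le (le_sup_right : O ≤ H), Subgroup.relIndex_sup_right, inf_comm O Z]
          ring
        have h2 := Subgroup.card_mul_index (Z.subgroupOf H)
        rw [Nat.card_congr (Subgroup.subgroupOfEquivOfLe (le_sup_left : Z ≤ H)).toEquiv] at h2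
        have h3 : (Z.subgroupOf H).index ∣ Nat.card O := by
          have := h2 ▸ h1
          exact Nat.dvd_of_mul_dvd_mul_left Nat.card_pos this
        exact ((Fact.out : p.Prime).coprime_iff_not_dvd.1 (card_pPrimeCore_coprime p).symm) (hd.trans h3)
      have hZ2 : IsPGroup p Z := T.2.to_le (ZJ.centerThompsonAOf_le _)
      let SZ : Sylow p H := (hZ2.comap_of_injective H.subtype H.subtype_injective).toSylow hidx
      have hZg : IsPGroup p ((Z.map (MulAut.conj g).toMonoidHom).subgroupOf H) :=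
        (hZ2.map _).comap_of_injective H.subtype H.subtype_injective
      obtain ⟨S', hS'⟩ := hZg.exists_le_sylow
      obtain ⟨h, hh⟩ := MulAction.exists_smul_eq H S' SZ
      obtain ⟨z', hz', o, ho, hzo⟩ := Subgroup.mem_sup_of_normal_right.1 h.2
      refine ⟨o * g, ?_, ?_⟩
      · refine mem_normalizer_of_map_conj_eq (Subgroup.eq_of_le_of_card_ge ?_
          (Subgroup.card_map_of_injective (MulAut.conj (o * g)).injective).ge)
        rintro _ ⟨z, hz, rfl⟩
        have hzH : g * z * g⁻¹ ∈ H := hgc ⟨z, hz, rfl⟩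
        have hm : h * ⟨g * z * g⁻¹, hzH⟩ * h⁻¹ ∈ (SZ : Subgroup H) := by
          rw [← hh]
          exact ⟨_, hS' ⟨z, hz, rfl⟩, rfl⟩
        have hm' : (h : G) * (g * z * g⁻¹) * (h : G)⁻¹ ∈ Z := hm
        have h5 : z'⁻¹ * ((h : G) * (g * z * g⁻¹) * (h : G)⁻¹) * z' ∈ Z :=
          Z.mul_mem (Z.mul_mem (Z.inv_mem hz') hm') hz'
        show o * g * z * (o * g)⁻¹ ∈ Z
        rw [← hzo] at h5
        simpa [mul_assoc] using h5
      · rw [map_mul, show σ o = 1 from (QuotientGroup.eq_one_iff o).2 ho, one_mul]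
    have hsurj : Function.Surjective (σ.comp N.subtype) := fun y => by
      obtain ⟨g, rfl⟩ := hσ y
      obtain ⟨m, hm, e⟩ := hcover g
      exact ⟨⟨m, hm⟩, e⟩
    refine hN (((hY.comap (σ.comp N.subtype) hsurj).map N.subtype_injective).mono ?_)
    rintro _ ⟨y, -, rfl⟩
    exact y.2
  -- `C(R) ≤ R`
  have hcon : Subgroup.centralizer (R : Set G) ≤ R := by
    set C := Subgroup.centralizer (R : Set G)
    haveI : C.Normal := Subgroup.normal_centralizer
    set P0 := (T : Subgroup G) ⊓ (C ⊔ R)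
    have hP0 : P0 ≤ R := by
      have hRP : R ≤ P0 := le_inf hRT le_sup_right
      obtain ⟨P, hP⟩ := PLocal.exists_sylow_inf T (C ⊔ R)
      have hfr := Sylow.normalizer_sup_eq_top P
      rw [hP] at hfr
      have hTn : (T : Subgroup G) ≤ Subgroup.normalizer (P0 : Set G) := by
        intro t ht
        refine Subgroup.mem_normalizer_iff.2 fun x => ⟨fun hx => ⟨?_, ?_⟩, fun hx => ⟨?_, ?_⟩⟩
        · exact (T : Subgroup G).mul_mem ((T : Subgroup G).mul_mem ht hx.1) ((T : Subgroup G).inv_mem ht)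
        · exact (inferInstance : (C ⊔ R).Normal).conj_mem x hx.2 t
        · have := (T : Subgroup G).mul_mem ((T : Subgroup G).mul_mem ((T : Subgroup G).inv_mem ht) hx.1) ht
          show x ∈ (T : Subgroup G)
          simpa [mul_assoc] using this
        · have := (inferInstance : (C ⊔ R).Normal).conj_mem _ hx.2 t⁻¹
          simpa [mul_assoc] using this
      by_cases htop : Subgroup.normalizer (P0 : Set G) = ⊤
      · haveI := Subgroup.normalizer_eq_top_iff.1 htop
        exact le_pCore (T.2.to_le inf_le_left)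
      exfalso
      refine hover _ hTn htop ?_
      obtain ⟨m, hm, cr, hcr, he⟩ := Subgroup.mem_sup_of_normal_right.1 (hfr.ge (Subgroup.mem_top s))
      obtain ⟨c, hc, r', hr', hcr'⟩ := Subgroup.mem_sup_of_normal_left.1
        (show cr ∈ R ⊔ C by rw [sup_comm]; exact hcr)
      set m' := m * c
      have hm' : m' ∈ Subgroup.normalizer (P0 : Set G) := Subgroup.mul_mem _ hm (Subgroup.le_normalizer (hRP hc))
      haveI hn : C.Normal := inferInstance
      have hmk : QuotientGroup.mk' C m' = QuotientGroup.mk' C s := by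
        rw [← he, ← hcr', map_mul, map_mul, map_mul,
          show QuotientGroup.mk' C r' = 1 from (QuotientGroup.eq_one_iff r').2 hr', mul_one]
      obtain ⟨j, hj, hje⟩ := exists_two_part (QuotientGroup.mk' C) m' k (by rw [hmk, ← map_pow, hk, map_one])
      refine hrl _ (hRP.trans Subgroup.le_normalizer) _ (Subgroup.pow_mem _ hm' j) hj ⟨r, hr, fun e => hsr ?_⟩
      have hdc : (m' ^ j)⁻¹ * s ∈ C := QuotientGroup.eq.1 (hje.trans hmk)
      have h1 := hdc r hr
      calc s * r = m' ^ j * (((m' ^ j)⁻¹ * s) * r) := by group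
        _ = m' ^ j * (r * ((m' ^ j)⁻¹ * s)) := by rw [h1]
        _ = (m' ^ j * r) * ((m' ^ j)⁻¹ * s) := by rw [mul_assoc]
        _ = r * s := by rw [e]; group
    obtain ⟨PC, hPC⟩ := PLocal.exists_sylow_inf T C
    have hPCR : ∀ x : C, x ∈ (PC : Subgroup C) → (x : G) ∈ R := fun x hx =>
      hP0 ⟨(hPC.le ⟨x, hx, rfl⟩).1, Subgroup.mem_sup_left x.2⟩
    have hnc : Subgroup.normalizer ((PC : Subgroup C) : Set C) ≤ Subgroup.centralizer ((PC : Subgroup C) : Set C) :=
      fun m _ x hx => Subtype.ext (m.2 _ (hPCR x hx))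
    have hcomp := MonoidHom.ker_transferSylow_isComplement' PC hnc
    set Km := (MonoidHom.transferSylow PC hnc).ker
    have hKc : (Nat.card Km).Coprime p := by
      refine ((Fact.out : p.Prime).coprime_iff_not_dvd.2 fun h => ?_).symm
      exact PC.not_dvd_index (by rwa [hcomp.index_eq_card])
    haveI hKn : (Km.map C.subtype).Normal := by
      refine ⟨fun x hx g => ?_⟩
      obtain ⟨z, hz, rfl⟩ := hx
      refine ⟨⟨g * z * g⁻¹, (inferInstance : C.Normal).conj_mem _ z.2 g⟩, ?_, rfl⟩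
      show MonoidHom.transferSylow PC hnc _ = 1
      obtain ⟨i, hi⟩ := PC.2 (MonoidHom.transferSylow PC hnc ⟨g * z * g⁻¹, (inferInstance : C.Normal).conj_mem _ z.2 g⟩)
      refine orderOf_eq_one_iff.1 (Nat.eq_one_of_dvd_coprimes (hKc.pow_right i) ((orderOf_map_dvd _ _).trans ?_)
        (orderOf_dvd_of_pow_eq_one hi))
      rw [Subgroup.orderOf_mk, CfsgLib.JComp.orderOf_conj_eq, Subgroup.orderOf_coe, ← Subgroup.orderOf_mk z hz]
      exact orderOf_dvd_natCard _
    have hK1 : Km.map C.subtype ≤ ⊥ :=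
      hO ▸ le_pPrimeCore (by rwa [Subgroup.card_map_of_injective C.subtype_injective])
    intro x hx
    obtain ⟨⟨a, b⟩, hab⟩ := hcomp.2 ⟨x, hx⟩
    have ha : (a : C) = 1 := Subtype.ext (Subgroup.mem_bot.1 (hK1 ⟨a, a.2, rfl⟩))
    have e : x = ((b : C) : G) := by
      have := congrArg Subtype.val hab.symm
      simpa [ha] using this
    exact e ▸ hPCR _ b.2
  -- proper overgroups of `T` have odd order
  have hodd : ∀ H : Subgroup G, (T : Subgroup G) ≤ H → H ≠ ⊤ → Odd (Nat.card H) := by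
    intro H hTH hH
    rw [← Nat.not_even_iff_odd, even_iff_two_dvd]
    intro h2
    haveI : Fact (Nat.Prime 2) := ⟨Nat.prime_two⟩
    obtain ⟨t, ht⟩ := exists_prime_orderOf_dvd_card' (G := H) 2 h2
    refine hover H hTH hH (hrl H (hRT.trans hTH) t t.2 ⟨1, by
      rw [pow_one, ← ht, ← Subgroup.orderOf_coe, pow_orderOf_eq_one]⟩ ?_)
    by_contra hall
    push Not at hall
    obtain ⟨i, hi⟩ := isPGroup_pCore p ⟨(t : G), hcon fun r hr => (hall r hr).symm⟩
    have h3 : 2 ∣ p ^ i := by
      rw [← ht, ← Subgroup.orderOf_coe]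
      exact orderOf_dvd_of_pow_eq_one (congrArg Subtype.val hi)
    exact hp ((Nat.prime_dvd_prime_iff_eq Nat.prime_two Fact.out).1 (Nat.prime_two.dvd_of_dvd_pow h3)).symm
  -- the action is not stable
  by_cases hst : ZJ.QuadStable p G
  · refine hN (hG.mono ?_)
    have h := ZJ.zj_normal hp (Or.inl rfl) hcon hst T
    rw [ZJ.zj_zero] at h
    exact (Subgroup.normalizer_eq_top_iff.2 h).ge
  · simp only [ZJ.QuadStable, not_forall] at hst
    obtain ⟨V, hVn, hV, a, -, hq, hout⟩ := hst
    obtain ⟨W, _, _, φ, hexp, hφa, hquad, hcore⟩ := exists_chief_quad _ V rfl hV a (fun v hv => by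
      have h1 := Subgroup.commutator_mem_commutator (Subgroup.commutator_mem_commutator hv (Subgroup.mem_zpowers a))
        (Subgroup.mem_zpowers a)
      rw [hq, Subgroup.mem_bot] at h1
      exact h1) hout
    have hRker : R ≤ φ.ker := fun x hx => by
      have h1 : φ.rangeRestrict x ∈ pCore p φ.range :=
        le_pCore (hN := Subgroup.Normal.map inferInstance _ φ.rangeRestrict_surjective)
          ((isPGroup_pCore p).map φ.rangeRestrict) ⟨x, hx, rfl⟩
      rw [hcore, Subgroup.mem_bot] at h1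
      exact congrArg Subtype.val h1
    haveI : Finite φ.range := Finite.of_surjective _ φ.rangeRestrict_surjective
    let ψ : G ⧸ R →* φ.range := QuotientGroup.lift R φ.rangeRestrict fun x hx => Subtype.ext (hRker hx)
    have hψ : Function.Surjective ψ := fun y => by
      obtain ⟨g, rfl⟩ := φ.rangeRestrict_surjective y
      exact ⟨QuotientGroup.mk g, rfl⟩
    have hnr : ¬ Rl p (⊤ : Subgroup φ.range) := fun h => hXR ((h.comap ψ hψ).mono le_top)
    refine hφa (congrArg Subtype.val (no_quad φ.range.subtype φ.range.subtype_injective hexp hp hnr hcore ?_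
      (a := φ.rangeRestrict a) hquad))
    intro TY H hTH hH
    have hs := φ.rangeRestrict_surjective
    obtain ⟨g, hg⟩ := MulAction.exists_smul_eq φ.range TY (T.mapSurjective hs)
    obtain ⟨g, rfl⟩ := hs g
    set H' := H.comap φ.rangeRestrict
    set H'' := H'.map (MulAut.conj g).toMonoidHom
    have hne : H'' ≠ ⊤ := by
      intro e
      refine hH ?_
      have h1 : H' = ⊤ := Subgroup.map_injective (MulAut.conj g).injective
        (e.trans (Subgroup.map_top_of_surjective _ (MulAut.conj g).surjective).symm)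
      rw [← Subgroup.map_comap_eq_self_of_surjective hs H]
      show H'.map φ.rangeRestrict = ⊤
      rw [h1, Subgroup.map_top_of_surjective _ hs]
    have hT'' : (T : Subgroup G) ≤ H'' := by
      intro t ht
      have h1 : φ.rangeRestrict t ∈ ((φ.rangeRestrict g • TY : Sylow p φ.range) : Subgroup φ.range) := by
        rw [hg]; exact ⟨t, ht, rfl⟩
      obtain ⟨y, hy, hye⟩ := h1
      have hye' : φ.rangeRestrict g * y * (φ.rangeRestrict g)⁻¹ = φ.rangeRestrict t := hye
      refine ⟨g⁻¹ * t * g, ?_, by simp [mul_assoc]⟩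
      show φ.rangeRestrict (g⁻¹ * t * g) ∈ H
      rw [map_mul, map_mul, map_inv, ← hye']
      simpa [mul_assoc] using hTH hy
    have h3 := hodd H'' hT'' hne
    rw [Subgroup.card_map_of_injective (MulAut.conj g).injective] at h3
    refine h3.of_dvd_nat ?_
    conv_lhs => rw [← Subgroup.map_comap_eq_self_of_surjective hs H]
    exact Subgroup.card_dvd_of_surjective (φ.rangeRestrict.subgroupMap H') (φ.rangeRestrict.subgroupMap_surjective H')

/-- If a nontrivial `p`-element is inverted then one of `T` is inverted in `N(Z(J(T)))`. -/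
theorem exists_inverted_normalizer [Finite G] [Fact p.Prime] (hp : p ≠ 2) (T : Sylow p G)
    (h : Rl p (⊤ : Subgroup G)) :
    ∃ x ∈ (T : Subgroup G), x ≠ 1 ∧ ∃ g ∈ Subgroup.normalizer (centerThompsonAOf (T : Subgroup G) : Set G),
      g * x * g⁻¹ = x⁻¹ := by
  set N := Subgroup.normalizer (centerThompsonAOf (T : Subgroup G) : Set G)
  obtain ⟨u, hu, hu1, hup, t, ht, htu⟩ := (rl_normalizer_zj p hp _ G rfl h T).exists_inverted
  have hTN : (T : Subgroup G) ≤ N :=
    Subgroup.le_normalizer.trans (ZJ.normalizer_le_normalizer_centerThompsonAOf _)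
  obtain ⟨P, hP⟩ := (hup.comap_of_injective N.subtype N.subtype_injective).exists_le_sylow
  obtain ⟨m, hm⟩ := MulAction.exists_smul_eq N P (T.subtype hTN)
  have hx : (m : G) * u * (m : G)⁻¹ ∈ (T : Subgroup G) := by
    have h1 : m * ⟨u, hu⟩ * m⁻¹ ∈ ((T.subtype hTN : Sylow p N) : Subgroup N) := by
      rw [← hm]; exact ⟨_, hP (Subgroup.mem_zpowers u), rfl⟩
    exact h1
  refine ⟨_, hx, fun e => hu1 ?_, (m : G) * t * (m : G)⁻¹, N.mul_mem (N.mul_mem m.2 ht) (N.inv_mem m.2), ?_⟩
  · calc u = (m : G)⁻¹ * ((m : G) * u * (m : G)⁻¹) * m := by group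
      _ = 1 := by rw [e]; group
  · calc _ = (m : G) * (t * u * t⁻¹) * (m : G)⁻¹ := by group
      _ = ((m : G) * u * (m : G)⁻¹)⁻¹ := by rw [htu]; group

end CfsgLib.RealQuad
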