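import Cfsg.Agent.Lib.RealQuad.Main

/-!
Normal Sylow 2-subgroups and inverted elements of odd order.
-/

set_option autoImplicit false
set_option linter.unusedSectionVars false
set_option maxHeartbeats 1000000

namespace CfsgLib.RealQuad

open CfsgLib CfsgLib.Local Cfsg
open scoped Pointwise

universe u

variable {G : Type u} [Group G] [Finite G]

theorem sylow_two_normal_sub (h : ∀ P : Sylow 2 G, (P : Subgroup G).Normal) (N : Subgroup G) (P : Sylow 2 N) :
    (P : Subgroup N).Normal := by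
  haveI : Fact (Nat.Prime 2) := ⟨Nat.prime_two⟩
  obtain ⟨S⟩ := (inferInstance : Nonempty (Sylow 2 G))
  haveI := h S
  obtain ⟨S', hS'⟩ := (P.2.map N.subtype).exists_le_sylow
  haveI : Unique (Sylow 2 G) := Sylow.unique_of_normal S (h S)
  rw [Subsingleton.elim S' S] at hS'
  haveI : ((S : Subgroup G).subgroupOf N).Normal := Subgroup.Normal.subgroupOf inferInstance N
  have hle : (P : Subgroup N) ≤ (S : Subgroup G).subgroupOf N := fun x hx => hS' ⟨x, hx, rfl⟩
  have e := P.3 (S.2.comap_of_injective N.subtype N.subtype_injective) hle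
  exact e ▸ this

/-- In a group with normal Sylow 2-subgroup no nontrivial element of odd order is inverted. -/
theorem not_inverted {N : Subgroup G} (h : ∀ P : Sylow 2 N, (P : Subgroup N).Normal) {x g : G} (hx : x ∈ N)
    (hg : g ∈ N) (hxodd : Odd (orderOf x)) (e : g * x * g⁻¹ = x⁻¹) : x = 1 := by
  haveI : Fact (Nat.Prime 2) := ⟨Nat.prime_two⟩
  obtain ⟨S⟩ := (inferInstance : Nonempty (Sylow 2 N))
  haveI := h S
  set π := QuotientGroup.mk' (S : Subgroup N)
  set X : N := ⟨x, hx⟩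
  set Γ : N := ⟨g, hg⟩
  have hodd : Odd (Nat.card (N ⧸ (S : Subgroup N))) := by
    rw [← Nat.not_even_iff_odd, even_iff_two_dvd]
    exact S.not_dvd_index
  have h0 : π Γ * π X * (π Γ)⁻¹ = (π X)⁻¹ := by
    rw [← map_inv, ← map_mul, ← map_mul, ← map_inv]
    exact congrArg π (Subtype.ext e)
  have h2 : π Γ ^ 2 * π X = π X * π Γ ^ 2 := by
    rw [← mul_inv_eq_iff_eq_mul]
    calc π Γ ^ 2 * π X * (π Γ ^ 2)⁻¹ = π Γ * (π Γ * π X * (π Γ)⁻¹) * (π Γ)⁻¹ := by rw [sq]; group
      _ = π Γ * (π X)⁻¹ * (π Γ)⁻¹ := by rw [h0]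
      _ = (π Γ * π X * (π Γ)⁻¹)⁻¹ := by group
      _ = π X := by rw [h0, inv_inv]
  obtain ⟨j, hj⟩ := hodd.of_dvd_nat (orderOf_dvd_natCard (π Γ))
  have hcomm : π Γ * π X = π X * π Γ := by
    have e1 : π Γ = (π Γ ^ 2) ^ (j + 1) := by
      rw [← pow_mul, show 2 * (j + 1) = orderOf (π Γ) + 1 by omega, pow_succ, pow_orderOf_eq_one, one_mul]
    rw [e1]
    exact ((show Commute (π Γ ^ 2) (π X) from h2).pow_left _).eq
  rw [hcomm, mul_inv_cancel_right] at h0
  have h4 : π X ^ 2 = 1 := by rw [sq]; nth_rewrite 1 [h0]; exact inv_mul_cancel _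
  have h5 : π X = 1 := by
    obtain ⟨i, hi⟩ := hodd.of_dvd_nat (orderOf_dvd_natCard (π X))
    have e1 := pow_orderOf_eq_one (π X)
    rwa [hi, pow_succ, pow_mul, h4, one_pow, one_mul] at e1
  obtain ⟨i, hi⟩ := S.2 ⟨X, (QuotientGroup.eq_one_iff X).1 h5⟩
  have hi' : x ^ 2 ^ i = 1 := congrArg (fun y : (S : Subgroup N) => ((y : N) : G)) hi
  exact orderOf_eq_one_iff.1 (Nat.eq_one_of_dvd_coprimes ((Nat.coprime_two_left.2 hxodd).pow_left i)
    (orderOf_dvd_of_pow_eq_one hi') dvd_rfl)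

/-- A group whose Sylow 2-subgroup is not normal has an odd prime `q` and an inverted `q`-element. -/
theorem exists_rl (h : ¬ ∀ P : Sylow 2 G, (P : Subgroup G).Normal) :
    ∃ q : ℕ, q.Prime ∧ q ≠ 2 ∧ q ∣ Nat.card G ∧ Rl q (⊤ : Subgroup G) := by
  haveI : Fact (Nat.Prime 2) := ⟨Nat.prime_two⟩
  push Not at h
  obtain ⟨P, hP⟩ := h
  set R := pCore 2 G
  set π := QuotientGroup.mk' R
  have hπ : Function.Surjective π := QuotientGroup.mk'_surjective R
  have hX0 : pCore 2 (G ⧸ R) = ⊥ := CfsgLib.ZJ.pCore_quotient_pCore_eq_bot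
  have hne : ((P.mapSurjective hπ : Sylow 2 (G ⧸ R)) : Subgroup (G ⧸ R)) ≠ ⊥ := by
    intro e
    refine hP ?_
    have e' : (P : Subgroup G) = R := le_antisymm (fun x hx => (QuotientGroup.eq_one_iff x).1 (by
      have h2 : π x ∈ ((P.mapSurjective hπ : Sylow 2 (G ⧸ R)) : Subgroup (G ⧸ R)) :=
        (Sylow.coe_mapSurjective hπ P).ge ⟨x, hx, rfl⟩
      rw [e] at h2
      exact Subgroup.mem_bot.1 h2)) (pCore_le_sylow P)
    rw [e']; infer_instance
  set X := G ⧸ R
  obtain ⟨t, ht⟩ : ∃ t : X, orderOf t = 2 := by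
    obtain ⟨k, hk0, hk⟩ := (P.mapSurjective hπ).2.nontrivial_iff_card.1 ((Subgroup.nontrivial_iff_ne_bot _).2 hne)
    exact exists_prime_orderOf_dvd_card' 2 ((hk ▸ dvd_pow_self 2 hk0.ne').trans
      (Subgroup.card_subgroup_dvd_card _))
  have ht2 : t * t = 1 := by
    have h1 := pow_orderOf_eq_one t
    rw [ht, sq] at h1
    exact h1
  have htz : IsPGroup 2 (Subgroup.zpowers t) := IsPGroup.of_card (n := 1) (by rw [Nat.card_zpowers, ht, pow_one])
  obtain ⟨g, hg⟩ : ∃ g : X, ¬ IsPGroup 2 ↥(Subgroup.zpowers t ⊔ MulAut.conj g • Subgroup.zpowers t) := by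
    by_contra hh
    push Not at hh
    have h1 := isSubnormal_isPGroup_le_pCore (le_fitting_of_sup_conj_nilpotent _ fun g => (hh g).isNilpotent).1 htz
      (Subgroup.mem_zpowers t)
    rw [hX0, Subgroup.mem_bot] at h1
    rw [h1, orderOf_one] at ht
    omega
  set t' := g * t * g⁻¹
  have ht' : t' * t' = 1 := by
    calc t' * t' = g * (t * t) * g⁻¹ := by simp only [t']; group
      _ = 1 := by rw [ht2]; group
  set u := t * t'
  have hu : t * u * t⁻¹ = u⁻¹ := by
    calc t * u * t⁻¹ = (t * t) * t' * t⁻¹ := by simp only [u]; group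
      _ = t'⁻¹ * t⁻¹ := by rw [ht2, one_mul, inv_eq_of_mul_eq_one_right ht']
      _ = _ := by simp only [u, mul_inv_rev]
  have hnp : ¬ IsPGroup 2 (Subgroup.zpowers u) := by
    intro hup
    refine hg ((htz.to_sup_of_normal_right' hup ?_).to_le (sup_le le_sup_left ?_))
    · rw [Subgroup.zpowers_le]
      refine mem_normalizer_of_map_conj_eq ?_
      rw [MonoidHom.map_zpowers]
      show Subgroup.zpowers (t * u * t⁻¹) = _
      rw [hu, Subgroup.zpowers_inv]
    · show (Subgroup.zpowers t).map (MulAut.conj g).toMonoidHom ≤ _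
      rw [MonoidHom.map_zpowers, Subgroup.zpowers_le]
      show t' ∈ _
      rw [show t' = t⁻¹ * u by simp [u]]
      exact Subgroup.mul_mem _ (Subgroup.inv_mem _ (Subgroup.mem_sup_left (Subgroup.mem_zpowers t)))
        (Subgroup.mem_sup_right (Subgroup.mem_zpowers u))
  obtain ⟨q, hq, hqd, hq2⟩ : ∃ q : ℕ, q.Prime ∧ q ∣ orderOf u ∧ q ≠ 2 := by
    by_contra hh
    push Not at hh
    refine hnp (IsPGroup.of_card (n := (orderOf u).primeFactorsList.length) ?_)
    rw [Nat.card_zpowers]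
    exact Nat.eq_prime_pow_of_unique_prime_dvd (orderOf_pos u).ne' fun {d} hd hdu => hh d hd hdu
  haveI : Fact q.Prime := ⟨hq⟩
  set y := u ^ (orderOf u / q) with hy
  have hyo : orderOf y = q := orderOf_pow_orderOf_div (orderOf_pos u).ne' hqd
  refine ⟨q, hq, hq2, ?_, ?_⟩
  · refine hqd.trans ((orderOf_dvd_natCard u).trans ?_)
    exact Subgroup.card_quotient_dvd_card R
  · refine ((rl_of_inverted (H := (⊤ : Subgroup X)) (x := y) (g := t) ?_ hq2 trivial ?_ trivial ?_).comap π hπ).mono le_top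
    · exact IsPGroup.of_card (n := 1) (by rw [Nat.card_zpowers, hyo, pow_one])
    · intro e; rw [e, orderOf_one] at hyo; exact hq.one_lt.ne hyo
    · rw [hy, ← conj_pow, hu, inv_pow]

end CfsgLib.RealQuad
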